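import Cfsg.Agent.Lib.Order2520.Local
import Cfsg.Agent.Lib.BoundedPres.AltGen

/-!
# A simple group of order 2520 is `A₇`

Generators satisfying Moore's relations, converted to Carmichael generators.
-/

set_option autoImplicit false
set_option linter.style.haveILetI false
set_option linter.unusedSectionVars false

namespace Cfsg.Agent.Order2520

open Subgroup Cfsg.Agent.SmallSimple

section Algebra

variable {G : Type*} [Group G]

theorem mul_conj_three {u v : G} (hu : u * u * u = 1) :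
    v * u * (v * u) * (v * u) = v * (u * v * u⁻¹) * (u * u * v * (u * u)⁻¹) := by
  have e : (u * u)⁻¹ = u := by
    rw [inv_eq_iff_mul_eq_one, hu]
  have e' : u⁻¹ = u * u := inv_eq_of_mul_eq_one_left hu
  rw [e', e]
  calc v * u * (v * u) * (v * u) = v * u * v * u * v * u := by group
    _ = v * u * v * (u * u * u) * u * v * u := by rw [hu]; group
    _ = v * (u * v * (u * u)) * (u * u * v * u) := by group

/-- Two distinct commuting involutions of a four-group cannot both give order three products with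
`e` along with their product. -/
theorem eq_of_three {a b e : G} (ha : a * a = 1) (hb : b * b = 1) (he : e * e = 1)
    (hab : a * b = b * a) (h1 : a * e * (a * e) * (a * e) = 1) (h2 : b * e * (b * e) * (b * e) = 1)
    (h3 : a * b * e * (a * b * e) * (a * b * e) = 1) : b = e := by
  have hai : a⁻¹ = a := inv_eq_of_mul_eq_one_right ha
  have hbi : b⁻¹ = b := inv_eq_of_mul_eq_one_right hb
  have hei : e⁻¹ = e := inv_eq_of_mul_eq_one_right he
  have br : ∀ z : G, z⁻¹ = z → z * e * (z * e) * (z * e) = 1 → e * z * e = z * e * z := by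
    intro z hz h
    have h' : z * e * z * (e * z * e) = 1 := by rw [← h]; group
    have e1 := eq_inv_of_mul_eq_one_right h'
    rw [e1]
    simp only [_root_.mul_inv_rev, hz, hei, mul_assoc]
  have ea := br a hai h1
  have eb := br b hbi h2
  have hab' : (a * b)⁻¹ = a * b := by rw [_root_.mul_inv_rev, hai, hbi, hab]
  have eab := br (a * b) hab' h3
  have k1 : e * (a * b) * e = (e * a * e) * (e * b * e) := by
    calc e * (a * b) * e = e * a * (1 * b * e) := by group
      _ = e * a * (e * e * b * e) := by rw [he]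
      _ = _ := by group
  rw [ea, eb] at k1
  -- `e (ab) e = a e a b e b = a e (ab) e b = a (ab e ab) b`
  have k2 : e * (a * b) * e = a * (a * b * e * (a * b)) * b := by
    rw [← eab]
    calc e * (a * b) * e = a * e * a * (b * e * b) := k1
      _ = _ := by group
  rw [eab] at k2
  have k3 : a * b * e * (a * b) = b * e * a := by
    calc a * b * e * (a * b) = a * (a * b * e * (a * b)) * b := k2
      _ = (a * a) * b * e * a * (b * b) := by group
      _ = b * e * a := by rw [ha, hb]; group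
  have k4 : e * a * b = a * e * a := by
    calc e * a * b = b⁻¹ * (b * e * (a * b)) := by group
      _ = b⁻¹ * (a⁻¹ * (a * b * e * (a * b))) := by group
      _ = b⁻¹ * (a⁻¹ * (b * e * a)) := by rw [k3]
      _ = (a * b)⁻¹ * b * e * a := by group
      _ = a * (b * b) * e * a := by rw [hab']; group
      _ = a * e * a := by rw [hb, mul_one]
  have k5 : e * a * b = e * a * e := by rw [k4, ← ea]
  exact mul_left_cancel k5

/-- One step from Moore's generators to Carmichael's. -/
theorem sq_conj {a b s : G} (h : a * b * (a * b) = 1) :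
    s * a * s⁻¹ * (s * b * s⁻¹) * (s * a * s⁻¹ * (s * b * s⁻¹)) = 1 := by
  calc _ = s * (a * b * (a * b)) * s⁻¹ := by group
    _ = 1 := by rw [h]; group

theorem sq_symm {a b : G} (h : a * b * (a * b) = 1) : b * a * (b * a) = 1 := by
  calc b * a * (b * a) = a⁻¹ * (a * b * (a * b)) * a := by group
    _ = 1 := by rw [h]; group

theorem sq_inv {a b : G} (h : a * b * (a * b) = 1) : a⁻¹ * b⁻¹ * (a⁻¹ * b⁻¹) = 1 := by
  calc a⁻¹ * b⁻¹ * (a⁻¹ * b⁻¹) = (b * a * (b * a))⁻¹ := by group
    _ = 1 := by rw [sq_symm h, inv_one]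

/-- `y ↦ (s y s⁻¹)⁻¹`. -/
def step (s y : G) : G := (s * y * s⁻¹)⁻¹

theorem step_cube {s y : G} (h : y * y * y = 1) : step s y * step s y * step s y = 1 := by
  calc _ = (s * (y * y * y) * s⁻¹)⁻¹ := by simp only [step]; group
    _ = 1 := by rw [h]; group

/-- An element inverted by `s` against the next generator. -/
theorem pair_old {s a b : G} (ha : s * a * s⁻¹ = a⁻¹) (h : a * b * (a * b) = 1) :
    a * step s b * (a * step s b) = 1 := by
  have h1 := sq_inv (sq_conj (s := s) h)
  rw [ha, inv_inv] at h1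
  exact h1

theorem conj_step {s t y : G} (hc : t * s = s * t) (h : t * y * t⁻¹ = y⁻¹) :
    t * step s y * t⁻¹ = (step s y)⁻¹ := by
  have hts : t * s⁻¹ = s⁻¹ * t := (show Commute t s from hc).inv_right.eq
  calc t * step s y * t⁻¹ = (t * s * y * (t * s)⁻¹ * 1)⁻¹ * 1 := by simp only [step]; group
    _ = (s * (t * y * t⁻¹) * s⁻¹)⁻¹ := by rw [hc]; group
    _ = (step s y)⁻¹ := by rw [h]; simp only [step]; group

/-- A braid inverts two steps back. -/
theorem conj_step_step {s t y : G} (hs : s * s = 1) (ht : t * t = 1)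
    (hb : s * t * (s * t) * (s * t) = 1) (h : t * y * t⁻¹ = y⁻¹) :
    s * step t (step s y) * s⁻¹ = (step t (step s y))⁻¹ := by
  have hsi : s⁻¹ = s := inv_eq_of_mul_eq_one_right hs
  have hti : t⁻¹ = t := inv_eq_of_mul_eq_one_right ht
  have hbr : s * t * s = t * s * t := by
    have h' : s * t * s * (t * s * t) = 1 := by rw [← hb]; group
    rw [eq_inv_of_mul_eq_one_left h']
    simp only [_root_.mul_inv_rev, hsi, hti, mul_assoc]
  have e : step t (step s y) = t * s * y * s⁻¹ * t⁻¹ := by simp only [step]; group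
  rw [e]
  calc s * (t * s * y * s⁻¹ * t⁻¹) * s⁻¹ = (s * t * s) * y * (s * t * s)⁻¹ := by group
    _ = t * s * (t * y * t⁻¹) * s⁻¹ * t⁻¹ := by rw [hbr]; group
    _ = _ := by rw [h]; group

theorem pair_new {s t y : G} (hs : s * s = 1) (ht : t * t = 1)
    (hb : s * t * (s * t) * (s * t) = 1) (h : t * y * t⁻¹ = y⁻¹)
    (hy : y * step s y * (y * step s y) = 1) :
    step s y * step t (step s y) * (step s y * step t (step s y)) = 1 := by
  have h1 := sq_inv (sq_conj (s := s) (pair_old h hy))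
  rw [conj_step_step hs ht hb h, inv_inv] at h1
  exact h1

end Algebra

variable {G : Type*} [Group G] [Finite G]

/-- Five elements with Carmichael's relations give `A₇`. -/
theorem iso_of_gens [IsSimpleGroup G] (hn : Nat.card G = 2520) (Y : Fin 5 → G) (hY : Y 0 ≠ 1)
    (h3 : ∀ i, Y i * Y i * Y i = 1) (h2 : ∀ i j, i ≠ j → Y i * Y j * (Y i * Y j) = 1) :
    Nonempty (G ≃* alternatingGroup (Fin 7)) := by
  classical
  let A := alternatingGroup (Fin 2 ⊕ Fin 5)
  let Z : Fin 5 → A × G := fun i => (BoundedPres.gen i, Y i)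
  set Q := Subgroup.closure (Set.range Z)
  let Z' : Fin 5 → Q := fun i => ⟨Z i, Subgroup.subset_closure ⟨i, rfl⟩⟩
  have hgen : Subgroup.closure (Set.range Z') = ⊤ := by
    refine Subgroup.map_injective Q.subtype_injective ?_
    rw [MonoidHom.map_closure, ← Set.range_comp, ← MonoidHom.range_eq_map, Subgroup.range_subtype]
    rfl
  obtain ⟨hQ, hle⟩ := BoundedPres.finite_of_carmichael Z'
    (fun i => Subtype.ext (Prod.ext (BoundedPres.gen_mul_mul i) (h3 i)))
    (fun i j hij => Subtype.ext (Prod.ext (BoundedPres.gen_mul_sq hij) (h2 i j hij))) hgen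
  haveI := hQ
  let π : Q →* A := (MonoidHom.fst A G).comp Q.subtype
  have hπ : Function.Surjective π := by
    rw [← MonoidHom.range_eq_top, ← top_le_iff, ← BoundedPres.closure_gen, Subgroup.closure_le]
    rintro _ ⟨i, rfl⟩
    exact ⟨Z' i, rfl⟩
  have hπb : Function.Bijective π := (Nat.bijective_iff_surjective_and_card π).2
    ⟨hπ, le_antisymm hle (Nat.card_le_card_of_surjective π hπ)⟩
  let e : Q ≃* A := MulEquiv.ofBijective π hπb
  let f : A →* G := ((MonoidHom.snd A G).comp Q.subtype).comp e.symm.toMonoidHom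
  have hA : 2 * Nat.card A = 2 * 2520 := by
    rw [BoundedPres.two_mul_card_alt, Fintype.card_fin]
    rfl
  have hA7 : Nat.card A = 2520 := by omega
  have hsimple : IsSimpleGroup A := by
    apply alternatingGroup.isSimpleGroup
    rw [Nat.card_eq_fintype_card, Fintype.card_sum, Fintype.card_fin, Fintype.card_fin]
    norm_num
  have hne : f ≠ 1 := by
    intro h
    apply hY
    have h1 : f (BoundedPres.gen 0) = Y 0 := by
      have he : e.symm (BoundedPres.gen 0) = Z' 0 := by
        rw [MulEquiv.symm_apply_eq]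
        rfl
      show ((MonoidHom.snd A G).comp Q.subtype) (e.symm (BoundedPres.gen 0)) = Y 0
      rw [he]
      rfl
    rw [← h1, h]
    rfl
  have hinj : Function.Injective f := by
    refine (MonoidHom.ker_eq_bot_iff f).1 ((Subgroup.Normal.eq_bot_or_eq_top
      (MonoidHom.normal_ker f)).resolve_right fun ht => hne ?_)
    rw [← MonoidHom.ker_eq_top_iff, ht]
  have hfb : Function.Bijective f :=
    (Nat.bijective_iff_injective_and_card f).2 ⟨hinj, by rw [hA7, hn]⟩
  have e2 : Fin 7 ≃ Fin 2 ⊕ Fin 5 := (finSumFinEquiv (m := 2) (n := 5)).symm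
  exact ⟨(MulEquiv.ofBijective f hfb).symm.trans e2.symm.altCongrHom⟩

variable [IsSimpleGroup G] [Fact (Nat.Prime 3)]

namespace Ctx

variable (c : Ctx G)
include c

/-- The lemma on products along the cycle of `V`. -/
theorem orbit_prod {u v : G} (hu : u ∈ (c.P : Subgroup G)) (hux : u ∉ zpowers c.x)
    (hu3 : u * u * u = 1) (hv : v ∈ c.V) : v * (u * v * u⁻¹) * (u * u * v * (u * u)⁻¹) = 1 := by
  have hL := c.K_le_L (c.P_le_K hu)
  have h1 : u * v * u⁻¹ ∈ c.V := c.conj_mem_V hL hv
  have h2 : u * u * v * (u * u)⁻¹ ∈ c.V := c.conj_mem_V (mul_mem hL hL) hv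
  refine c.fpf hu hux (mul_mem (mul_mem hv h1) h2) (conj_eq_self_iff.1 ?_)
  calc u * (v * (u * v * u⁻¹) * (u * u * v * (u * u)⁻¹)) * u⁻¹
      = (u * v * u⁻¹) * (u * u * v * (u * u)⁻¹) * ((u * u * u) * v * (u * u * u)⁻¹) := by group
    _ = (u * v * u⁻¹) * (u * u * v * (u * u)⁻¹) * v := by rw [hu3, one_mul, inv_one, mul_one]
    _ = _ := by rw [← c.comm_V hv (mul_mem h1 h2)]; group

theorem iso_of_rot {r : G} (hr : r ∈ normalizer ((c.P : Subgroup G) : Set G))
    (hrr : ∀ w ∈ (c.P : Subgroup G), r * r * w * (r * r)⁻¹ = w⁻¹) :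
    Nonempty (G ≃* alternatingGroup (Fin 7)) := by
  have hx3 : c.x * c.x * c.x = 1 := by
    rw [← pow_three', ← c.hx3, pow_orderOf_eq_one]
  have hxi := inv_ne_self c.hx3
  set u := r * c.x * r⁻¹ with hu_def
  have huP : u ∈ (c.P : Subgroup G) := (mem_normalizer_iff.1 hr c.x).1 c.hx
  have huo : orderOf u = 3 := by rw [hu_def, ← MulAut.conj_apply, MulEquiv.orderOf_eq, c.hx3]
  have hu1 : u ≠ 1 := fun e => by rw [e, orderOf_one] at huo; omega
  have hu3 : u * u * u = 1 := by rw [← pow_three', ← huo, pow_orderOf_eq_one]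
  have hru : r * u * r⁻¹ = c.x⁻¹ := by rw [hu_def, conj_conj_eq, hrr _ c.hx]
  have hux : u ∉ zpowers c.x := by
    intro h
    rcases mem_zpowers_three c.hx3 h hu1 with e | e
    · rw [e, show r * c.x * r⁻¹ = c.x from hu_def.symm.trans e] at hru
      exact hxi hru.symm
    · rw [e, show r * c.x⁻¹ * r⁻¹ = (r * c.x * r⁻¹)⁻¹ by group,
        show r * c.x * r⁻¹ = c.x⁻¹ from hu_def.symm.trans e, inv_inv] at hru
      exact hxi hru.symm
  have hxu : c.x ∉ zpowers u := by
    intro h
    rcases mem_zpowers_three huo h c.x_ne_one with e | e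
    · exact hux (e ▸ mem_zpowers c.x)
    · exact hux ((inv_mem_iff).1 (e ▸ mem_zpowers c.x))
  have hsu : c.s * u * c.s⁻¹ = u⁻¹ := c.hsP u huP
  have hxu' : u * c.x = c.x * u := comm_of_mem c.hab huP c.hx
  obtain ⟨t, ht_def⟩ : ∃ t, t = c.s * u := ⟨_, rfl⟩
  have htP : ∀ w ∈ (c.P : Subgroup G), t * w * t⁻¹ = w⁻¹ := fun w hw => by
    rw [ht_def, ← conj_conj_eq, conj_eq_self_iff.2 (comm_of_mem c.hab huP hw), c.hsP w hw]
  have htx : t * c.x * t⁻¹ = c.x⁻¹ := htP _ c.hx
  have hst : c.s * t = u := by rw [ht_def, ← mul_assoc, c.s_sq, one_mul]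
  have ht2 : t * t = 1 := by
    have e : u * c.s = c.s * u⁻¹ := by
      have hsi : c.s⁻¹ = c.s := inv_eq_of_mul_eq_one_right c.s_sq
      calc u * c.s = (c.s * c.s) * (u * c.s⁻¹) := by rw [c.s_sq, one_mul, hsi]
        _ = c.s * (c.s * u * c.s⁻¹) := by group
        _ = _ := by rw [hsu]
    calc t * t = c.s * (u * c.s) * u := by rw [ht_def]; group
      _ = (c.s * c.s) * (u⁻¹ * u) := by rw [e]; group
      _ = 1 := by rw [c.s_sq, inv_mul_cancel, one_mul]
  have ht1 : t ≠ 1 := fun e => c.not_mem_K_of_inv htx (e.symm ▸ one_mem _)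
  have hto : orderOf t = 2 := orderOf_eq_prime (by rw [pow_two]; exact ht2) ht1
  have htL : t ∈ c.L := c.mem_L_of_inv htx
  obtain ⟨e, he, he1, hte⟩ := c.exists_fixed htL ht2
  -- the involution `a` of the four-group of `C(u)`
  have hrt : (r⁻¹ * t * r) * (r⁻¹ * t * r) = 1 := by
    calc (r⁻¹ * t * r) * (r⁻¹ * t * r) = r⁻¹ * (t * t) * r := by group
      _ = 1 := by rw [ht2]; group
  have hrtx : (r⁻¹ * t * r) * c.x * (r⁻¹ * t * r)⁻¹ = c.x⁻¹ := by
    calc _ = r⁻¹ * (t * u * t⁻¹) * r := by rw [hu_def]; group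
      _ = r⁻¹ * u⁻¹ * r := by rw [htP u huP]
      _ = c.x⁻¹ := by rw [hu_def]; group
  obtain ⟨a', ha', ha'1, hta'⟩ := c.exists_fixed (c.mem_L_of_inv hrtx) hrt
  obtain ⟨a, ha_def⟩ : ∃ a, a = r * a' * r⁻¹ := ⟨_, rfl⟩
  have ha2 : a * a = 1 := by
    calc a * a = r * (a' * a') * r⁻¹ := by rw [ha_def]; group
      _ = 1 := by rw [c.sq_eq_one ha']; group
  have ha1 : a ≠ 1 := fun h => ha'1 (conj_eq_one_iff.1 (ha_def.symm.trans h))
  have hau : a * u = u * a := by
    calc a * u = r * (a' * c.x) * r⁻¹ := by rw [ha_def, hu_def]; group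
      _ = _ := by rw [mem_centralizer_singleton_iff.1 (c.V_le_K ha'), ha_def, hu_def]; group
  have hta : t * a = a * t := by
    calc t * a = r * (r⁻¹ * t * r * a') * r⁻¹ := by rw [ha_def]; group
      _ = r * (a' * (r⁻¹ * t * r)) * r⁻¹ := by rw [hta']
      _ = _ := by rw [ha_def]; group
  have hsa : c.s * a = a * c.s := by
    have e1 : c.s = t * u⁻¹ := by rw [ht_def, mul_inv_cancel_right]
    rw [e1]
    exact ((show Commute t a from hta).mul_left (show Commute u a from hau.symm).inv_left).eq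
  -- the orbit of `a` under `x`
  set x' := r⁻¹ * c.x * r with hx'_def
  have hx'P : x' ∈ (c.P : Subgroup G) := by
    have := (mem_normalizer_iff.1 (inv_mem hr) c.x).1 c.hx
    simpa [hx'_def] using this
  have hx'3 : x' * x' * x' = 1 := by
    calc x' * x' * x' = r⁻¹ * (c.x * c.x * c.x) * r := by rw [hx'_def]; group
      _ = 1 := by rw [hx3]; group
  have hx'x : x' ∉ zpowers c.x := by
    intro h
    obtain ⟨i, hi⟩ := mem_zpowers_iff.1 h
    refine hxu (mem_zpowers_iff.2 ⟨i, ?_⟩)
    rw [hu_def, conj_zpow, hi, hx'_def]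
    group
  have horb : a * (c.x * a * c.x⁻¹) * (c.x * c.x * a * (c.x * c.x)⁻¹) = 1 := by
    calc _ = r * (a' * (x' * a' * x'⁻¹) * (x' * x' * a' * (x' * x')⁻¹)) * r⁻¹ := by
          rw [ha_def, hx'_def]; group
      _ = 1 := by rw [c.orbit_prod hx'P hx'x hx'3 ha']; group
  have hax : a * c.x ≠ c.x * a := fun h => ha'1 (c.fpf hx'P hx'x ha' (by
    calc x' * a' = r⁻¹ * (c.x * a) * r := by rw [ha_def, hx'_def]; group
      _ = r⁻¹ * (a * c.x) * r := by rw [h]
      _ = _ := by rw [ha_def, hx'_def]; group))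
  have he2 : e * e = 1 := c.sq_eq_one he
  have hei : e⁻¹ = e := inv_eq_of_mul_eq_one_right he2
  have heK := mem_centralizer_singleton_iff.1 (c.V_le_K he)
  -- the product of `a` and `e` does not have order three
  have hne3 : a * e * (a * e) * (a * e) ≠ 1 := by
    intro h
    set a1 := c.x * a * c.x⁻¹ with ha1_def
    set a2 := c.x * c.x * a * (c.x * c.x)⁻¹ with ha2_def
    have ha12 : a1 * a1 = 1 := by
      calc a1 * a1 = c.x * (a * a) * c.x⁻¹ := by rw [ha1_def]; group
        _ = 1 := by rw [ha2]; group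
    have ha22 : a2 * a2 = 1 := by
      calc a2 * a2 = c.x * c.x * (a * a) * (c.x * c.x)⁻¹ := by rw [ha2_def]; group
        _ = 1 := by rw [ha2]; group
    have hcx : ∀ k : G, Commute k e → k * a * k⁻¹ * e * (k * a * k⁻¹ * e) * (k * a * k⁻¹ * e) = 1 := by
      intro k hk
      calc k * a * k⁻¹ * e * (k * a * k⁻¹ * e) * (k * a * k⁻¹ * e)
          = k * a * (k⁻¹ * e * k) * (a * (k⁻¹ * e * k)) * (a * (k⁻¹ * e * k)) * k⁻¹ := by group
        _ = k * (a * e * (a * e) * (a * e)) * k⁻¹ := by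
          rw [show k⁻¹ * e * k = e by rw [mul_assoc, ← hk.eq, inv_mul_cancel_left]]; group
        _ = 1 := by rw [h]; group
    have h1 := hcx c.x heK.symm
    have h2 := hcx (c.x * c.x) ((show Commute c.x e from heK.symm).mul_left heK.symm)
    have h12 : a * a1 = a1 * a := by
      calc a * a1 = (r * (a' * (x' * a' * x'⁻¹)) * r⁻¹) := by rw [ha1_def, ha_def, hx'_def]; group
        _ = r * ((x' * a' * x'⁻¹) * a') * r⁻¹ := by
          rw [c.comm_V ha' (c.conj_mem_V (c.K_le_L (c.P_le_K hx'P)) ha')]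
        _ = _ := by rw [ha1_def, ha_def, hx'_def]; group
    have hprod : a * a1 = a2 := by
      rw [mul_eq_one_iff_eq_inv.1 horb]
      exact inv_eq_of_mul_eq_one_right ha22
    rw [← ha1_def] at h1
    rw [← ha2_def, ← hprod] at h2
    have r1 : a1 = e := eq_of_three ha2 ha12 he2 h12 h h1 h2
    have r2 : a = e := eq_of_three ha12 ha2 he2 h12.symm h1 h (by rw [← h12]; exact h2)
    apply hax
    rw [r2]
    exact heK
  -- the product has order six
  obtain ⟨g, hg⟩ := isConj_iff.1 (c.isConj_of_orderOf hto)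
  have hconjcomm : ∀ z : G, z * t = t * z → g * z * g⁻¹ * c.e = c.e * (g * z * g⁻¹) := fun z hz => by
    rw [← hg]
    calc g * z * g⁻¹ * (g * t * g⁻¹) = g * (z * t) * g⁻¹ := by group
      _ = _ := by rw [hz]; group
  set τ := g⁻¹ * c.x * g with hτ_def
  have hτo : orderOf τ = 3 := by
    rw [hτ_def, show g⁻¹ * c.x * g = MulAut.conj g⁻¹ c.x by simp [MulAut.conj_apply],
      MulEquiv.orderOf_eq, c.hx3]
  have hτt : τ * t = t * τ := by
    have h : c.x * c.e = c.e * c.x :=
      (mem_centralizer_singleton_iff.1 (c.V_le_K c.e_mem)).symm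
    rw [← hg] at h
    calc τ * t = g⁻¹ * (c.x * (g * t * g⁻¹)) * g := by rw [hτ_def]; group
      _ = g⁻¹ * (g * t * g⁻¹ * c.x) * g := by rw [h]
      _ = _ := by rw [hτ_def]; group
  have hnot : ∀ {z y : G}, orderOf z = 2 → z * y = y * z → orderOf y = 3 → t * y * t⁻¹ = y⁻¹ →
      τ * z ≠ z * τ := by
    intro z y hz hzy hy hty hτz
    have hτy : τ ∈ zpowers y := c.three_unique hz hzy.symm hτz hy hτo
    have hy' : y ∈ zpowers τ := by
      rw [Subgroup.eq_of_le_of_card_ge (zpowers_le.2 hτy) (by rw [Nat.card_zpowers, Nat.card_zpowers, hy, hτo])]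
      exact mem_zpowers y
    obtain ⟨i, hi⟩ := mem_zpowers_iff.1 hy'
    have : t * y = y * t := by
      rw [← hi]; exact ((show Commute t τ from hτt.symm).zpow_right i).eq
    rw [conj_eq_self_iff.2 this] at hty
    exact inv_ne_self hy hty.symm
  have hao : orderOf a = 2 := orderOf_eq_prime (by rw [pow_two]; exact ha2) ha1
  have ha_inv : ∀ z : G, orderOf z = 2 → z * t = t * z → τ * z ≠ z * τ →
      (g * z * g⁻¹) * c.x * (g * z * g⁻¹)⁻¹ = c.x⁻¹ := by
    intro z hz hzt hne
    refine c.inv_of_mem_L (c.centralizer_e_le.1 (mem_centralizer_singleton_iff.2 (hconjcomm z hzt))) fun hK => hne ?_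
    have h := mem_centralizer_singleton_iff.1 hK
    calc τ * z = g⁻¹ * (c.x * (g * z * g⁻¹)) * g := by rw [hτ_def]; group
      _ = g⁻¹ * (g * z * g⁻¹ * c.x) * g := by rw [h]
      _ = _ := by rw [hτ_def]; group
  have hA := ha_inv a hao hta.symm (hnot hao hau huo (htP u huP))
  have hE := ha_inv e (c.orderOf_V he he1) hte.symm (hnot (c.orderOf_V he he1) heK c.hx3 htx)
  obtain ⟨A, hA_def⟩ : ∃ A, A = g * a * g⁻¹ := ⟨_, rfl⟩
  obtain ⟨E, hE_def⟩ : ∃ E, E = g * e * g⁻¹ := ⟨_, rfl⟩
  rw [← hA_def] at hA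
  rw [← hE_def] at hE
  have hAE : A * E ∈ c.K := c.mul_mem_K hA hE
  have hAEe : A * E * c.e = c.e * (A * E) :=
    ((show Commute A c.e from hA_def ▸ hconjcomm a hta.symm).mul_left
      (show Commute E c.e from hE_def ▸ hconjcomm e hte.symm)).eq
  obtain ⟨hv, -, -⟩ := c.inf_K_data hAE hAEe
  have hAA : A * A = 1 := by
    calc A * A = g * (a * a) * g⁻¹ := by rw [hA_def]; group
      _ = 1 := by rw [ha2]; group
  have hEE : E * E = 1 := by
    calc E * E = g * (e * e) * g⁻¹ := by rw [hE_def]; group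
      _ = 1 := by rw [he2]; group
  set v := (A * E) ^ 3 with hv_def
  have hvv : v⁻¹ = v := inv_eq_of_mul_eq_one_right (c.sq_eq_one hv)
  have hAv : A * v * A⁻¹ = v := by
    have hAi : A⁻¹ = A := inv_eq_of_mul_eq_one_right hAA
    have hEi : E⁻¹ = E := inv_eq_of_mul_eq_one_right hEE
    rw [hv_def, ← conj_pow]
    rw [show A * (A * E) * A⁻¹ = (A * E)⁻¹ by
      rw [_root_.mul_inv_rev, hAi, hEi, ← mul_assoc, hAA, one_mul], inv_pow, ← hv_def, hvv]
  have hg3 : a * e * (a * e) * (a * e) = t := by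
    have e3 : v = g * (a * e * (a * e) * (a * e)) * g⁻¹ := by
      rw [hv_def, pow_three', hA_def, hE_def]; group
    rcases c.eq_of_fixed hA (hA_def ▸ hconjcomm a hta.symm) hv (conj_eq_self_iff.1 hAv) with h | h
    · exfalso
      rw [e3] at h
      exact hne3 (conj_eq_one_iff.1 h)
    · rw [e3, ← hg] at h
      exact mul_left_cancel (mul_right_cancel h)
  -- Moore's relations
  have htae : Commute t (a * e) := (show Commute t a from hta).mul_right hte
  obtain ⟨s3, hs3_def⟩ : ∃ s3, s3 = t * e := ⟨_, rfl⟩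
  have hs32 : s3 * s3 = 1 := by
    calc s3 * s3 = t * (e * t) * e := by rw [hs3_def]; group
      _ = (t * t) * (e * e) := by rw [← hte]; group
      _ = 1 := by rw [ht2, he2, one_mul]
  have has3 : a * s3 * (a * s3) * (a * s3) = 1 := by
    calc a * s3 * (a * s3) * (a * s3) = (a * t) * e * ((a * t) * e) * ((a * t) * e) := by
          rw [hs3_def]; group
      _ = (t * (a * e)) * (t * (a * e)) * (t * (a * e)) := by rw [← hta]; group
      _ = t * ((a * e) * t) * (a * e) * (t * (a * e)) := by group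
      _ = t * (t * (a * e)) * (a * e) * (t * (a * e)) := by rw [← htae.eq]
      _ = (t * t) * ((a * e) * (a * e) * (t * (a * e))) := by group
      _ = (a * e) * (a * e) * (t * (a * e)) := by rw [ht2, one_mul]
      _ = (a * e) * (a * e) * ((a * e) * t) := by rw [htae.eq]
      _ = ((a * e) * (a * e) * (a * e)) * t := by group
      _ = 1 := by rw [show a * e * (a * e) * (a * e) = t from hg3, ht2]
  have hs3x : s3 * c.x * s3⁻¹ = c.x⁻¹ := by
    rw [hs3_def, ← conj_conj_eq, conj_eq_self_iff.2 heK, htx]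
  have hts3 : t * s3 = s3 * t := by
    rw [hs3_def, mul_assoc, ← hte]
  have hs3s : s3 * c.s * (s3 * c.s) * (s3 * c.s) = 1 := by
    set e' := c.s * e * c.s with he'_def
    have he' : e' ∈ c.V := by
      have := c.conj_mem_V c.s_mem_L he
      rwa [inv_eq_of_mul_eq_one_right c.s_sq] at this
    have hui : u⁻¹ = c.s * u * c.s := by
      rw [← hsu, inv_eq_of_mul_eq_one_right c.s_sq]
    have hk : s3 * c.s = u⁻¹ * e' := by
      rw [hui, he'_def, hs3_def, ht_def]
      calc c.s * u * e * c.s = c.s * u * (c.s * c.s) * e * c.s := by rw [c.s_sq, mul_one]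
        _ = _ := by group
    have hu' : u⁻¹ ∈ (c.P : Subgroup G) := inv_mem huP
    have hu'3 : u⁻¹ * u⁻¹ * u⁻¹ = 1 := by
      calc u⁻¹ * u⁻¹ * u⁻¹ = (u * u * u)⁻¹ := by group
        _ = 1 := by rw [hu3, inv_one]
    have h := c.orbit_prod hu' (fun h => hux ((inv_mem_iff).1 h)) hu'3 he'
    rw [← mul_conj_three hu'3] at h
    rw [hk]
    calc u⁻¹ * e' * (u⁻¹ * e') * (u⁻¹ * e')
        = u⁻¹ * (e' * u⁻¹ * (e' * u⁻¹) * (e' * u⁻¹)) * u := by group
      _ = 1 := by rw [h]; group
  have hst3 : c.s * t * (c.s * t) * (c.s * t) = 1 := by rw [hst, hu3]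
  -- Carmichael's generators
  set y2 := step a c.x with hy2_def
  set y3 := step s3 y2 with hy3_def
  set y4 := step c.s y3 with hy4_def
  set y5 := step t y4 with hy5_def
  have hsy2 : c.s * y2 * c.s⁻¹ = y2⁻¹ := conj_step hsa c.sx
  have hty2 : t * y2 * t⁻¹ = y2⁻¹ := conj_step hta htx
  have hty3 : t * y3 * t⁻¹ = y3⁻¹ := conj_step hts3 hty2
  have p12 : c.x * y2 * (c.x * y2) = 1 := by
    have hai : a⁻¹ = a := inv_eq_of_mul_eq_one_right ha2
    have hc1 : a * (c.x * a * c.x⁻¹) = (c.x * a * c.x⁻¹) * a := by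
      calc a * (c.x * a * c.x⁻¹) = r * (a' * (x' * a' * x'⁻¹)) * r⁻¹ := by
            rw [ha_def, hx'_def]; group
        _ = r * ((x' * a' * x'⁻¹) * a') * r⁻¹ := by
          rw [c.comm_V ha' (c.conj_mem_V (c.K_le_L (c.P_le_K hx'P)) ha')]
        _ = _ := by rw [ha_def, hx'_def]; group
    have e1 : c.x * y2 = (c.x * a * c.x⁻¹) * a := by
      rw [hy2_def, step]
      calc c.x * (a * c.x * a⁻¹)⁻¹ = c.x * a * c.x⁻¹ * a⁻¹ := by group
        _ = _ := by rw [hai]
    rw [e1]
    calc c.x * a * c.x⁻¹ * a * (c.x * a * c.x⁻¹ * a)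
        = c.x * a * c.x⁻¹ * (a * (c.x * a * c.x⁻¹)) * a := by group
      _ = c.x * a * c.x⁻¹ * ((c.x * a * c.x⁻¹) * a) * a := by rw [hc1]
      _ = c.x * (a * a) * c.x⁻¹ * (a * a) := by group
      _ = 1 := by rw [ha2]; group
  have p13 : c.x * y3 * (c.x * y3) = 1 := pair_old hs3x p12
  have p14 : c.x * y4 * (c.x * y4) = 1 := pair_old c.sx p13
  have p15 : c.x * y5 * (c.x * y5) = 1 := pair_old htx p14
  have p23 : y2 * y3 * (y2 * y3) = 1 := pair_new ha2 hs32 has3 hs3x p12
  have p24 : y2 * y4 * (y2 * y4) = 1 := pair_old hsy2 p23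
  have p25 : y2 * y5 * (y2 * y5) = 1 := pair_old hty2 p24
  have p34 : y3 * y4 * (y3 * y4) = 1 := pair_new hs32 c.s_sq hs3s hsy2 p23
  have p35 : y3 * y5 * (y3 * y5) = 1 := pair_old hty3 p34
  have p45 : y4 * y5 * (y4 * y5) = 1 := pair_new c.s_sq ht2 hst3 hty3 p34
  refine iso_of_gens c.hn ![c.x, y2, y3, y4, y5] c.x_ne_one ?_ ?_
  · intro i
    fin_cases i
    · exact hx3
    · exact step_cube hx3
    · exact step_cube (step_cube hx3)
    · exact step_cube (step_cube (step_cube hx3))
    · exact step_cube (step_cube (step_cube (step_cube hx3)))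
  · intro i j hij
    fin_cases i <;> fin_cases j <;> first
      | exact absurd rfl hij
      | exact p12
      | exact p13
      | exact p14
      | exact p15
      | exact p23
      | exact p24
      | exact p25
      | exact p34
      | exact p35
      | exact p45
      | exact sq_symm p12
      | exact sq_symm p13
      | exact sq_symm p14
      | exact sq_symm p15
      | exact sq_symm p23
      | exact sq_symm p24
      | exact sq_symm p25
      | exact sq_symm p34
      | exact sq_symm p35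
      | exact sq_symm p45

end Ctx

/-- **Main theorem.** -/
theorem iso_alternating_seven (hn : Nat.card G = 2520) : Nonempty (G ≃* alternatingGroup (Fin 7)) := by
  rcases sylow_three hn with h | h70
  · exact h
  have hmod : ¬ Nat.card (Sylow 3 G) ≡ 1 [MOD 3 ^ 2] := by rw [h70]; decide
  obtain ⟨P, Q, hPQ, hidx⟩ := S0985.result 3 2 hmod
  have hP := card_sylow_three hn P
  obtain ⟨w, hw, hw1⟩ : ∃ w ∈ (P : Subgroup G) ⊓ (Q : Subgroup G), w ≠ 1 := by
    refine (Subgroup.bot_or_exists_ne_one _).resolve_left fun e => ?_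
    have h0 : (Q : Subgroup G).subgroupOf (P : Subgroup G) = ⊥ := by
      rw [Subgroup.subgroupOf_eq_bot, disjoint_iff, inf_comm, e]
    rw [h0, Subgroup.index_bot, hP] at hidx
    norm_num at hidx
  obtain ⟨hwP, hwQ⟩ := Subgroup.mem_inf.1 hw
  have hw9 : orderOf w ∣ 3 ^ 2 := by
    have := Subgroup.orderOf_dvd_natCard _ hwP
    rwa [hP] at this
  obtain ⟨i, hi, hwi⟩ := (Nat.dvd_prime_pow Nat.prime_three).1 hw9
  have hi0 : i ≠ 0 := fun e => hw1 (orderOf_eq_one_iff.1 (by rw [hwi, e, pow_zero]))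
  set x := w ^ 3 ^ (i - 1) with hx_def
  have hxo : orderOf x = 3 := by
    rw [hx_def, orderOf_pow, hwi]
    interval_cases i <;> first | omega | norm_num
  have hx : x ∈ (P : Subgroup G) := pow_mem hwP _
  have hQ : ∃ R : Sylow 3 G, R ≠ P ∧ x ∈ (R : Subgroup G) := ⟨Q, hPQ.symm, pow_mem hwQ _⟩
  obtain ⟨R, s, hR, hRc, -, htriv, hs, hs2, hsP, hsq⟩ := exists_inverting hn P h70 hx hxo hQ
  obtain ⟨hK', hNK'⟩ := card_centralizer_data hn P h70 hx hxo hQ
  have hK := card_eq_of_inverted hn hxo (hsP x hx) hK'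
  rw [hK] at hNK'
  have hC := centralizer_sylow hn P h70 hx hxo hQ
  have hab := sylow_comm hn P
  let c : Ctx G :=
    { P := P, x := x, s := s, hn := hn, hP := hP, hab := hab, hCP := hC, hx := hx, hx3 := hxo,
      hK := hK, hs := hs2, hsP := hsP
      hNK := by
        refine (Subgroup.eq_of_le_of_card_ge (le_inf le_normalizer fun a ha =>
          mem_centralizer_singleton_iff.2 (comm_of_mem hab ha hx)) ?_).symm
        rw [hP]
        omega }
  obtain ⟨r, hr, hrr⟩ := c.exists_rot hR hRc htriv hs hsP hsq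
  exact c.iso_of_rot hr hrr

end Cfsg.Agent.Order2520
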