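import Cfsg.Agent.Lib.Order2520.Counts
import Cfsg.Agent.Lib.Transfer.Thompson
import Cfsg.Agent.Lib.Coprime.Basic

/-!
# Simple groups of order 2520: the 3-local and 2-local structure

`Ctx`: an element `x` of order 3 in a Sylow subgroup `P` with `|C(x)| = 36`, an involution `s`
inverting `P`. All involutions are conjugate, and the centraliser of `e` lies in `N(⟨x⟩)`.
-/

set_option autoImplicit false
set_option linter.style.haveILetI false
set_option linter.unusedSectionVars false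

namespace Cfsg.Agent.Order2520

open Subgroup Cfsg.Agent.SmallSimple
open scoped commutatorElement

variable {G : Type*} [Group G]

theorem conj_eq_self_iff {a b : G} : a * b * a⁻¹ = b ↔ a * b = b * a := mul_inv_eq_iff_eq_mul

/-- The elements of a commutative subgroup inverted by `s`. -/
def invPart (P : Subgroup G) (hP : IsMulCommutative P) (s : G) : Subgroup G where
  carrier := {d | d ∈ P ∧ s * d * s⁻¹ = d⁻¹}
  one_mem' := ⟨one_mem P, by simp⟩
  mul_mem' := fun {a b} ha hb => ⟨mul_mem ha.1 hb.1, by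
    have hc : a⁻¹ * b⁻¹ = b⁻¹ * a⁻¹ := congrArg Subtype.val
      (hP.is_comm.comm (⟨a, ha.1⟩⁻¹ : P) (⟨b, hb.1⟩⁻¹ : P))
    calc s * (a * b) * s⁻¹ = (s * a * s⁻¹) * (s * b * s⁻¹) := by group
      _ = (a * b)⁻¹ := by rw [ha.2, hb.2, hc, _root_.mul_inv_rev]⟩
  inv_mem' := fun {a} ha => ⟨inv_mem ha.1, by
    calc s * a⁻¹ * s⁻¹ = (s * a * s⁻¹)⁻¹ := by group
      _ = a⁻¹⁻¹ := by rw [ha.2]⟩

theorem invPart_le {P : Subgroup G} (hP : IsMulCommutative P) (s : G) : invPart P hP s ≤ P :=
  fun _ hd => hd.1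

theorem comm_of_mem {P : Subgroup G} (hP : IsMulCommutative P) {a b : G} (ha : a ∈ P) (hb : b ∈ P) :
    a * b = b * a := congrArg Subtype.val (hP.is_comm.comm ⟨a, ha⟩ ⟨b, hb⟩)

variable [Finite G]

theorem eq_or_inv_of_card_three {H : Subgroup G} (hH : Nat.card H = 3) {d z : G} (hd : d ∈ H)
    (hd1 : d ≠ 1) (hz : z ∈ H) (hz1 : z ≠ 1) : z = d ∨ z = d⁻¹ := by
  have hod : orderOf d = 3 := by
    rcases (Nat.dvd_prime Nat.prime_three).1 (hH ▸ Subgroup.orderOf_dvd_natCard _ hd) with h | h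
    · exact absurd (orderOf_eq_one_iff.1 h) hd1
    · exact h
  have he : zpowers d = H :=
    Subgroup.eq_of_le_of_card_ge (zpowers_le.2 hd) (by rw [hH, Nat.card_zpowers, hod])
  rw [← he] at hz
  obtain ⟨i, rfl⟩ := mem_zpowers_iff.1 hz
  have h3 : d ^ (i : ℤ) = d ^ (i % 3) := by
    rw [← zpow_mod_orderOf, hod]; rfl
  rw [h3] at hz1 ⊢
  have hlo : 0 ≤ i % 3 := Int.emod_nonneg _ (by norm_num)
  have hhi : i % 3 < 3 := Int.emod_lt_of_pos _ (by norm_num)
  rcases (show i % 3 = 0 ∨ i % 3 = 1 ∨ i % 3 = 2 by omega) with h | h | h <;> rw [h] at hz1 ⊢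
  · exact absurd (zpow_zero d) hz1
  · exact Or.inl (zpow_one d)
  · refine Or.inr ?_
    rw [show (2 : ℤ) = ((2 : ℕ) : ℤ) by norm_num, zpow_natCast]
    refine eq_inv_of_mul_eq_one_left ?_
    have h3 := pow_orderOf_eq_one d
    rw [hod] at h3
    rw [← pow_succ]
    exact h3

theorem card_eq_three {P H : Subgroup G} (hP : Nat.card P = 9) (h : H ≤ P) (h1 : H ≠ ⊥)
    (h2 : H ≠ P) : Nat.card H = 3 := by
  have hd : Nat.card H ∣ 3 ^ 2 := by
    have := Subgroup.card_dvd_of_le h
    rwa [hP] at this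
  obtain ⟨i, hi, hHi⟩ := (Nat.dvd_prime_pow Nat.prime_three).1 hd
  interval_cases i
  · exact absurd ((Subgroup.card_eq_one).1 hHi) h1
  · simpa using hHi
  · exact absurd (Subgroup.eq_of_le_of_card_ge h (by rw [hP, hHi]; norm_num)) h2

/-- The basic data. -/
structure Ctx (G : Type*) [Group G] [Finite G] where
  P : Sylow 3 G
  x : G
  s : G
  hn : Nat.card G = 2520
  hP : Nat.card (P : Subgroup G) = 9
  hab : IsMulCommutative (P : Subgroup G)
  hCP : centralizer ((P : Subgroup G) : Set G) = (P : Subgroup G)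
  hx : x ∈ (P : Subgroup G)
  hx3 : orderOf x = 3
  hK : Nat.card (centralizer ({x} : Set G)) = 36
  hNK : normalizer ((P : Subgroup G) : Set G) ⊓ centralizer ({x} : Set G) = (P : Subgroup G)
  hs : orderOf s = 2
  hsP : ∀ w ∈ (P : Subgroup G), s * w * s⁻¹ = w⁻¹

theorem inv_ne_self {x : G} (hxo : orderOf x = 3) : x⁻¹ ≠ x := fun e => by
  have h2 : x ^ 2 = 1 := by
    rw [pow_two]; nth_rewrite 1 [← e]; exact inv_mul_cancel x
  have := orderOf_dvd_of_pow_eq_one h2
  rw [hxo] at this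
  norm_num at this

theorem mem_zpowers_three {x z : G} (hxo : orderOf x = 3) (hz : z ∈ zpowers x) (hz1 : z ≠ 1) :
    z = x ∨ z = x⁻¹ :=
  eq_or_inv_of_card_three (by rw [Nat.card_zpowers, hxo]) (mem_zpowers x)
    (fun e => by rw [e, orderOf_one] at hxo; omega) hz hz1

theorem mem_normalizer_zpowers_iff {x g : G} (hxo : orderOf x = 3) :
    g ∈ normalizer (zpowers x : Set G) ↔ g * x * g⁻¹ = x ∨ g * x * g⁻¹ = x⁻¹ := by
  constructor
  · intro h
    refine mem_zpowers_three hxo ((mem_normalizer_iff.1 h x).1 (mem_zpowers x)) fun e => ?_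
    rw [conj_eq_one_iff] at e
    rw [e, orderOf_one] at hxo
    omega
  · intro h
    have hmap : (zpowers x).map (MulAut.conj g).toMonoidHom = zpowers x := by
      rw [MonoidHom.map_zpowers]
      show zpowers (g * x * g⁻¹) = zpowers x
      rcases h with h | h <;> rw [h]
      exact zpowers_inv
    refine mem_normalizer_iff.2 fun a => ⟨fun ha => ?_, fun ha => ?_⟩
    · rw [← hmap]; exact ⟨a, ha, rfl⟩
    · rw [← hmap] at ha
      obtain ⟨b, hb, hba⟩ := ha
      exact (mul_left_cancel (mul_right_cancel (show g * b * g⁻¹ = g * a * g⁻¹ from hba))) ▸ hb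

/-- If some element inverts `x`, `C(x)` has index 2 in `N(⟨x⟩)`. -/
theorem relIndex_centralizer {x g : G} (hxo : orderOf x = 3) (hg : g * x * g⁻¹ = x⁻¹) :
    (centralizer ({x} : Set G)).relIndex (normalizer (zpowers x : Set G)) = 2 := by
  rw [Subgroup.relIndex, Subgroup.index_eq_two_iff]
  refine ⟨⟨g, (mem_normalizer_zpowers_iff hxo).2 (Or.inr hg)⟩, fun b => ?_⟩
  simp only [mem_subgroupOf, Subgroup.coe_mul, mem_centralizer_singleton_iff, ← conj_eq_self_iff]
  have e : (b : G) * g * x * ((b : G) * g)⁻¹ = ((b : G) * x * (b : G)⁻¹)⁻¹ := by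
    calc (b : G) * g * x * ((b : G) * g)⁻¹ = b * (g * x * g⁻¹) * (b : G)⁻¹ := by group
      _ = _ := by rw [hg]; group
  rw [e]
  rcases (mem_normalizer_zpowers_iff hxo).1 b.2 with h | h <;> rw [h]
  · exact Or.inr ⟨rfl, inv_ne_self hxo⟩
  · exact Or.inl ⟨inv_inv x, inv_ne_self hxo⟩

theorem card_normalizer_zpowers {x g : G} (hxo : orderOf x = 3) (hg : g * x * g⁻¹ = x⁻¹) :
    Nat.card (normalizer (zpowers x : Set G)) = Nat.card (centralizer ({x} : Set G)) * 2 := by
  have hle : centralizer ({x} : Set G) ≤ normalizer (zpowers x : Set G) := fun a ha =>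
    (mem_normalizer_zpowers_iff hxo).2
      (Or.inl (conj_eq_self_iff.2 (mem_centralizer_singleton_iff.1 ha)))
  rw [← relIndex_centralizer hxo hg, ← Nat.card_congr (subgroupOfEquivOfLe hle).toEquiv]
  exact (Subgroup.card_mul_index _).symm

variable [IsSimpleGroup G]

/-- A nontrivial element of an abelian Sylow subgroup is not central in the normaliser. -/
theorem eq_one_of_centralized (hG : ¬ IsMulCommutative G) {p : ℕ} [Fact p.Prime] (P : Sylow p G)
    (hab : IsMulCommutative (P : Subgroup G)) {w : G} (hw : w ∈ (P : Subgroup G))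
    (hc : ∀ g ∈ normalizer ((P : Subgroup G) : Set G), g * w = w * g) : w = 1 := by
  have h := Transfer.inf_centralizer_normalizer_inf_commutator_eq_bot P hab
  have htop : _root_.commutator G = ⊤ := by
    rcases (inferInstance : (_root_.commutator G).Normal).eq_bot_or_eq_top with h | h
    · refine absurd ⟨⟨fun a b => ?_⟩⟩ hG
      have hab' : ⁅a, b⁆ ∈ _root_.commutator G := by
        rw [_root_.commutator_def]
        exact Subgroup.commutator_mem_commutator (mem_top a) (mem_top b)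
      rw [h, mem_bot, commutatorElement_eq_one_iff_mul_comm] at hab'
      exact hab'
    · exact h
  rw [htop, inf_top_eq] at h
  rw [← Subgroup.mem_bot, ← h]
  exact Subgroup.mem_inf.2 ⟨hw, fun g hg => hc g hg⟩

section Exists

variable [Fact (Nat.Prime 3)] (hn : Nat.card G = 2520) (P : Sylow 3 G)
  (h70 : Nat.card (Sylow 3 G) = 70)
include hn h70

theorem card_centralizer_data {x : G} (hx : x ∈ (P : Subgroup G)) (hxo : orderOf x = 3)
    (hQ : ∃ Q : Sylow 3 G, Q ≠ P ∧ x ∈ (Q : Subgroup G)) :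
    (Nat.card (centralizer ({x} : Set G)) = 36 ∨ Nat.card (centralizer ({x} : Set G)) = 72) ∧
    4 * Nat.card ↥(normalizer ((P : Subgroup G) : Set G) ⊓ centralizer ({x} : Set G)) =
      Nat.card (centralizer ({x} : Set G)) := by
  obtain ⟨Q, hQP, hxQ⟩ := hQ
  have hcard : ∀ R : Sylow 3 G, Nat.card (R : Subgroup G) = 3 ^ 2 := fun R =>
    card_sylow_subgroup (k := 2) (m := 280) (by rw [hn]; norm_num) (by norm_num) R
  have hle : ∀ R : Sylow 3 G, x ∈ (R : Subgroup G) →
      (R : Subgroup G) ≤ centralizer ({x} : Set G) := fun R hR y hy =>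
    mem_centralizer_singleton_iff.2 (comm_of_mem
      (IsPGroup.isMulCommutative_of_card_eq_prime_sq (hcard R)) hy hR)
  set K := centralizer ({x} : Set G) with hKdef
  have hK5 : ∀ r, r.Prime → (r = 5 ∨ r = 7) → ¬ r ∣ Nat.card K := by
    intro r hr h hd
    haveI : Fact r.Prime := ⟨hr⟩
    obtain ⟨⟨a, haK⟩, ha⟩ := exists_prime_orderOf_dvd_card' (G := K) r hd
    rw [Subgroup.orderOf_mk] at ha
    rcases h with rfl | rfl
    · exact not_commute_five hn ha hxo (mem_centralizer_singleton_iff.1 haK)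
    · exact not_commute_seven hn ha (Or.inr hxo) (mem_centralizer_singleton_iff.1 haK)
  have h9 : 9 ∣ Nat.card K := by
    have h := Subgroup.card_dvd_of_le (hle P hx)
    rwa [hcard P] at h
  have hKd : Nat.card K ∣ 72 := by
    have h1 : Nat.card K ∣ 72 * 35 := by
      rw [show 72 * 35 = 2520 by norm_num, ← hn]; exact Subgroup.card_subgroup_dvd_card _
    refine (Nat.Coprime.dvd_of_dvd_mul_right ?_ h1)
    rw [show 35 = 5 * 7 by norm_num]
    exact Nat.Coprime.mul_right
      (((Nat.Prime.coprime_iff_not_dvd (by norm_num)).2 (hK5 5 (by norm_num) (Or.inl rfl))).symm)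
      (((Nat.Prime.coprime_iff_not_dvd (by norm_num)).2 (hK5 7 (by norm_num) (Or.inr rfl))).symm)
  set P' := P.subtype (hle P hx) with hP'
  set Q' := Q.subtype (hle Q hxQ)
  have hne : Nat.card (Sylow 3 K) ≠ 1 := by
    intro h1
    haveI := (Nat.card_eq_one_iff_unique.1 h1).1
    exact hQP (Sylow.subtype_injective (Subsingleton.elim Q' P'))
  have hnorm : normalizer ((P' : Subgroup K) : Set K) =
      (normalizer ((P : Subgroup G) : Set G) ⊓ K).subgroupOf K := by
    ext g
    rw [mem_subgroupOf, mem_inf, ← smul_sylow_eq_iff, ← smul_sylow_eq_iff, hP', Sylow.smul_subtype]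
    refine ⟨fun h => ⟨?_, g.2⟩, fun h => ?_⟩
    · exact Sylow.subtype_injective h
    · exact Sylow.ext (by simp only [Sylow.coe_subtype]; rw [show g • P = P from h.1])
  have hmul := card_sylow_mul_card_normalizer P'
  rw [hnorm, Nat.card_congr (subgroupOfEquivOfLe (inf_le_right : _ ⊓ K ≤ K)).toEquiv] at hmul
  have hmod : Nat.card (Sylow 3 K) % 3 = 1 :=
    Eq.trans (card_sylow_modEq_one 3 K) (Nat.mod_eq_of_lt (by norm_num))
  have h9N : 9 ∣ Nat.card ↥(normalizer ((P : Subgroup G) : Set G) ⊓ K) := by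
    have h := Subgroup.card_dvd_of_le (show (P : Subgroup G) ≤ normalizer ((P : Subgroup G) : Set G) ⊓ K
      from le_inf le_normalizer (hle P hx))
    rwa [hcard P] at h
  obtain ⟨j, hj⟩ := h9N
  set n := Nat.card (Sylow 3 K)
  rw [hj] at hmul
  have hn8 : n * j ∣ 8 := by
    rw [← hmul, show n * (9 * j) = 9 * (n * j) by ring] at hKd
    exact Nat.dvd_of_mul_dvd_mul_left (by norm_num) (show 9 * (n * j) ∣ 9 * 8 by exact hKd)
  have hn4 : n = 4 := by
    have h8 : n ∈ Nat.divisors 8 := Nat.mem_divisors.2 ⟨(Dvd.intro j rfl).trans hn8, by norm_num⟩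
    have key : ∀ d ∈ Nat.divisors 8, d % 3 = 1 → d ≠ 1 → d = 4 := by decide
    exact key n h8 hmod hne
  rw [hn4] at hn8 hmul
  have hj2 : j = 1 ∨ j = 2 := by
    have h2 : j ∣ 2 := Nat.dvd_of_mul_dvd_mul_left (by norm_num) (show 4 * j ∣ 4 * 2 by exact hn8)
    exact (Nat.dvd_prime Nat.prime_two).1 h2
  rw [hj]
  rcases hj2 with rfl | rfl <;> omega

omit h70 in
theorem card_eq_of_inverted {x g : G} (hxo : orderOf x = 3) (hg : g * x * g⁻¹ = x⁻¹)
    (h : Nat.card (centralizer ({x} : Set G)) = 36 ∨ Nat.card (centralizer ({x} : Set G)) = 72) :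
    Nat.card (centralizer ({x} : Set G)) = 36 := by
  refine h.resolve_right fun h72 => ?_
  have h2 := card_normalizer_zpowers hxo hg
  rw [h72] at h2
  have hd := Subgroup.card_subgroup_dvd_card (normalizer (zpowers x : Set G))
  rw [h2, hn] at hd
  norm_num at hd

omit h70 in
theorem card_sylow_three : Nat.card (P : Subgroup G) = 9 := by
  have := card_sylow_subgroup (p := 3) (k := 2) (m := 280) (by rw [hn]; norm_num) (by norm_num) P
  simpa using this

omit h70 in
theorem sylow_comm : IsMulCommutative (P : Subgroup G) :=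
  IsPGroup.isMulCommutative_of_card_eq_prime_sq (p := 3) (by rw [card_sylow_three hn P]; norm_num)

theorem card_normalizer_three :
    Nat.card (normalizer ((P : Subgroup G) : Set G)) = 36 := by
  have := card_sylow_mul_card_normalizer P
  rw [h70, hn] at this
  omega

theorem centralizer_sylow {x : G} (hx : x ∈ (P : Subgroup G)) (hxo : orderOf x = 3)
    (hQ : ∃ Q : Sylow 3 G, Q ≠ P ∧ x ∈ (Q : Subgroup G)) :
    centralizer ((P : Subgroup G) : Set G) = (P : Subgroup G) := by
  have hG := not_comm_of_card hn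
  have hab := sylow_comm hn P
  have hP := card_sylow_three hn P
  obtain ⟨-, -, -, hCN, hne⟩ := sylow_facts hn (p := 3) (by norm_num) P
  have hne' := hne hab
  rw [card_normalizer_three hn P h70] at hCN hne'
  set C := centralizer ((P : Subgroup G) : Set G)
  set N := normalizer ((P : Subgroup G) : Set G)
  have hPC : (P : Subgroup G) ≤ C := fun a ha b hb => comm_of_mem hab hb ha
  have hCle : C ≤ N := SmallSimple.centralizer_le_normalizer _
  have h9 : 9 ∣ Nat.card C := hP ▸ Subgroup.card_dvd_of_le hPC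
  have key : ∀ d ∈ Nat.divisors 36, 9 ∣ d → d ≠ 36 → d = 9 ∨ d = 18 := by decide +kernel
  rcases key _ (Nat.mem_divisors.2 ⟨hCN, by norm_num⟩) h9 hne' with h | h
  · exact (Subgroup.eq_of_le_of_card_ge hPC (by rw [hP, h])).symm
  exfalso
  have hidx : (C.subgroupOf N).index = 2 := by
    have h1 := Subgroup.card_mul_index (C.subgroupOf N)
    rw [Nat.card_congr (subgroupOfEquivOfLe hCle).toEquiv, h, card_normalizer_three hn P h70] at h1
    omega
  obtain ⟨⟨g, hgN⟩, hg⟩ := Subgroup.index_eq_two_iff.1 hidx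
  have hgC : g ∉ C := by
    rcases hg 1 with ⟨-, h1⟩ | ⟨-, h1⟩
    · exact absurd (one_mem _) h1
    · simpa [mem_subgroupOf] using h1
  have hg2 : g * g ∈ C := by
    rcases hg ⟨g, hgN⟩ with ⟨h1, -⟩ | ⟨h1, -⟩
    · simpa [mem_subgroupOf] using h1
    · exact absurd (by simpa [mem_subgroupOf] using h1) hgC
  have hconj : ∀ w ∈ (P : Subgroup G), g * w * g⁻¹ ∈ (P : Subgroup G) := fun w hw =>
    (mem_normalizer_iff.1 hgN w).1 hw
  have hinv : g * x * g⁻¹ = x⁻¹ := by
    refine eq_inv_of_mul_eq_one_right (eq_one_of_centralized hG P hab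
      (mul_mem hx (hconj x hx)) fun z hz => ?_)
    set q := x * (g * x * g⁻¹)
    have hq : q ∈ (P : Subgroup G) := mul_mem hx (hconj x hx)
    have hcq : ∀ c ∈ C, c * q = q * c := fun c hc => (hc q hq).symm
    have hgq : g * q = q * g := by
      refine conj_eq_self_iff.1 ?_
      have h1 : g * (g * x * g⁻¹) * g⁻¹ = x := by
        calc g * (g * x * g⁻¹) * g⁻¹ = g * g * x * (g * g)⁻¹ := by group
          _ = x := conj_eq_self_iff.2 (hg2 x hx).symm
      calc g * q * g⁻¹ = (g * x * g⁻¹) * (g * (g * x * g⁻¹) * g⁻¹) := by simp only [q]; group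
        _ = q := by rw [h1]; exact comm_of_mem hab (hconj x hx) hx
    rcases hg ⟨z, hz⟩ with ⟨h1, -⟩ | ⟨h1, -⟩
    · have h2 : z * g ∈ C := by simpa [mem_subgroupOf] using h1
      have e1 : Commute (z * g) q := hcq _ h2
      have e2 : Commute g q := hgq
      have := e1.mul_left e2.inv_left
      rwa [mul_inv_cancel_right] at this
    · exact hcq z (by simpa [mem_subgroupOf] using h1)
  obtain ⟨hK, hNK⟩ := card_centralizer_data hn P h70 hx hxo hQ
  have hCK : C ≤ N ⊓ centralizer ({x} : Set G) :=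
    le_inf hCle fun c hc => mem_centralizer_singleton_iff.2 (hc x hx).symm
  have h18 := Subgroup.card_dvd_of_le hCK
  rw [h] at h18
  rw [card_eq_of_inverted hn hxo hinv hK] at hNK
  have h18' := Nat.le_of_dvd Nat.card_pos h18
  have : Nat.card ↥(N ⊓ centralizer ({x} : Set G)) = 9 := Nat.eq_of_mul_eq_mul_left (by norm_num) hNK
  omega

theorem exists_inverting {x : G} (hx : x ∈ (P : Subgroup G)) (hxo : orderOf x = 3)
    (hQ : ∃ Q : Sylow 3 G, Q ≠ P ∧ x ∈ (Q : Subgroup G)) :
    ∃ (R : Subgroup G) (s : G), R ≤ normalizer ((P : Subgroup G) : Set G) ∧ Nat.card R = 4 ∧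
      (∀ w ∈ (P : Subgroup G), (∀ g ∈ R, g * w = w * g) → w = 1) ∧
      (∀ g ∈ R, (∀ w ∈ (P : Subgroup G), g * w = w * g) → g = 1) ∧
      s ∈ R ∧ orderOf s = 2 ∧ (∀ w ∈ (P : Subgroup G), s * w * s⁻¹ = w⁻¹) ∧
      (∀ g ∈ R, g * g ≠ 1 → g * g = s) := by
  have hG := not_comm_of_card hn
  have hab := sylow_comm hn P
  have hP := card_sylow_three hn P
  have hC := centralizer_sylow hn P h70 hx hxo hQ
  set N := normalizer ((P : Subgroup G) : Set G)
  have hN : Nat.card N = 36 := card_normalizer_three hn P h70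
  haveI : Fact (Nat.Prime 2) := ⟨Nat.prime_two⟩
  obtain ⟨R', hR'⟩ := Sylow.exists_subgroup_card_pow_prime 2 (n := 2) (G := N)
    (by rw [hN]; norm_num)
  set R := R'.map N.subtype
  have hR : Nat.card R = 4 := by
    rw [Subgroup.card_map_of_injective (Subgroup.subtype_injective _), hR']; norm_num
  have hRN : R ≤ N := map_subtype_le _
  have hRab : IsMulCommutative R :=
    IsPGroup.isMulCommutative_of_card_eq_prime_sq (p := 2) (by rw [hR]; norm_num)
  have hconj : ∀ g ∈ R, ∀ w ∈ (P : Subgroup G), g * w * g⁻¹ ∈ (P : Subgroup G) := fun g hg w hw =>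
    (mem_normalizer_iff.1 (hRN hg) w).1 hw
  have hord : ∀ g ∈ R, orderOf g ∣ 4 := fun g hg => hR ▸ Subgroup.orderOf_dvd_natCard _ hg
  have hdisj : ∀ g ∈ R, g ∈ (P : Subgroup G) → g = 1 := fun g hg hgP => by
    have h1 := hord g hg
    have h2 : orderOf g ∣ 9 := hP ▸ Subgroup.orderOf_dvd_natCard _ hgP
    exact orderOf_eq_one_iff.1 (Nat.dvd_one.1 (by simpa using Nat.dvd_gcd h1 h2))
  have htriv : ∀ g ∈ R, (∀ w ∈ (P : Subgroup G), g * w = w * g) → g = 1 := fun g hg h =>
    hdisj g hg (hC ▸ (fun w hw => (h w hw).symm))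
  have hfix : ∀ w ∈ (P : Subgroup G), (∀ g ∈ R, g * w = w * g) → w = 1 := by
    intro w hw h
    refine eq_one_of_centralized hG P hab hw fun g hg => ?_
    set H := N ⊓ centralizer ({w} : Set G)
    have h1 : (P : Subgroup G) ≤ H := le_inf le_normalizer fun a ha =>
      mem_centralizer_singleton_iff.2 (comm_of_mem hab ha hw)
    have h2 : R ≤ H := le_inf hRN fun a ha => mem_centralizer_singleton_iff.2 (h a ha)
    have h36 : 9 * 4 ∣ Nat.card H := Nat.Coprime.mul_dvd_of_dvd_of_dvd (by norm_num)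
      (hP ▸ Subgroup.card_dvd_of_le h1) (hR ▸ Subgroup.card_dvd_of_le h2)
    have e : H = N := Subgroup.eq_of_le_of_card_ge inf_le_left
      (by rw [hN]; exact Nat.le_of_dvd Nat.card_pos h36)
    exact mem_centralizer_singleton_iff.1 ((Subgroup.mem_inf.1 (e.symm ▸ hg : g ∈ H)).2)
  -- conjugation by elements of `R`
  have hcomp : ∀ g ∈ R, ∀ g' ∈ R, ∀ d : G, g * (g' * d * g'⁻¹) * g⁻¹ = g' * (g * d * g⁻¹) * g'⁻¹ := by
    intro g hg g' hg' d
    calc g * (g' * d * g'⁻¹) * g⁻¹ = (g * g') * d * (g * g')⁻¹ := by group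
      _ = (g' * g) * d * (g' * g)⁻¹ := by rw [comm_of_mem hRab hg hg']
      _ = _ := by group
  -- a square is an inversion
  have hsq : ∀ r ∈ R, r * r ≠ 1 → ∀ w ∈ (P : Subgroup G), r * r * w * (r * r)⁻¹ = w⁻¹ := by
    intro r hr hr2 w hw
    have hs2 : r * r * (r * r) = 1 := by
      obtain ⟨k, hk⟩ := hord r hr
      rw [show r * r * (r * r) = r ^ 4 by simp only [pow_succ, pow_zero, one_mul, mul_assoc], hk, pow_mul, pow_orderOf_eq_one, one_pow]
    have hsR : r * r ∈ R := mul_mem hr hr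
    have hgen : R = zpowers r := by
      refine (Subgroup.eq_of_le_of_card_ge (zpowers_le.2 hr) ?_).symm
      rw [hR, Nat.card_zpowers]
      obtain ⟨i, hi, hri⟩ := (Nat.dvd_prime_pow Nat.prime_two).1
        (show orderOf r ∣ 2 ^ 2 from hord r hr)
      interval_cases i
      · exfalso
        have h1 : r = 1 := orderOf_eq_one_iff.1 (by simpa using hri)
        exact hr2 (by rw [h1, one_mul])
      · exfalso
        have h2 : r ^ 2 = 1 := by
          have := pow_orderOf_eq_one r; rw [hri] at this; simpa using this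
        exact hr2 (by rw [← pow_two]; exact h2)
      · rw [hri]; norm_num
    set t := r * r with ht
    have hfixr : ∀ q ∈ (P : Subgroup G), r * q * r⁻¹ = q → q = 1 := by
      intro q hq hrq
      refine hfix q hq fun g hg => ?_
      rw [hgen] at hg
      obtain ⟨i, rfl⟩ := mem_zpowers_iff.1 hg
      exact ((show Commute r q from conj_eq_self_iff.1 hrq).zpow_left i).eq
    set T := invPart (P : Subgroup G) hab t
    have hq : w * (t * w * t⁻¹) ∈ (P : Subgroup G) := mul_mem hw (hconj _ hsR _ hw)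
    refine eq_inv_of_mul_eq_one_right ?_
    by_contra hq1
    set f := w * (t * w * t⁻¹)
    have hft : t * f * t⁻¹ = f := by
      have h1 : t * (t * w * t⁻¹) * t⁻¹ = w := by
        calc t * (t * w * t⁻¹) * t⁻¹ = (t * t) * w * (t * t)⁻¹ := by group
          _ = w := by rw [hs2]; group
      calc t * f * t⁻¹ = (t * w * t⁻¹) * (t * (t * w * t⁻¹) * t⁻¹) := by simp only [f]; group
        _ = f := by rw [h1]; exact comm_of_mem hab (hconj _ hsR _ hw) hw
    have hTne : T ≠ ⊥ := by
      intro hbot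
      refine hr2 (htriv t hsR fun d hd => conj_eq_self_iff.1 ?_)
      have hmem : d⁻¹ * (t * d * t⁻¹) ∈ T := by
        refine ⟨mul_mem (inv_mem hd) (hconj _ hsR _ hd), ?_⟩
        calc t * (d⁻¹ * (t * d * t⁻¹)) * t⁻¹ = (t * d * t⁻¹)⁻¹ * ((t * t) * d * (t * t)⁻¹) := by
              group
          _ = (t * d * t⁻¹)⁻¹ * d := by rw [hs2]; group
          _ = _ := by group
      rw [hbot, mem_bot, inv_mul_eq_one] at hmem
      exact hmem.symm
    have hfT : f ∉ T := fun h => hq1 (by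
      have e := h.2
      rw [hft] at e
      have h2 : f ^ 2 = 1 := by
        rw [pow_two]; nth_rewrite 2 [e]; exact mul_inv_cancel f
      have h9 : f ^ 9 = 1 := by
        obtain ⟨k, hk⟩ := (hP ▸ Subgroup.orderOf_dvd_natCard _ hq : orderOf f ∣ 9)
        rw [hk, pow_mul, pow_orderOf_eq_one, one_pow]
      calc f = f ^ 9 * ((f ^ 2) ^ 4)⁻¹ := by group
        _ = 1 := by rw [h9, h2, one_pow, inv_one, one_mul])
    have hT3 := card_eq_three hP (invPart_le hab t) hTne (fun e => hfT (show f ∈ invPart (P : Subgroup G) hab t by rw [e]; exact hq))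
    obtain ⟨d, hd, hd1⟩ := (Subgroup.bot_or_exists_ne_one T).resolve_left hTne
    have hrd : r * d * r⁻¹ ∈ T := ⟨hconj r hr d hd.1, by
      rw [hcomp t hsR r hr, hd.2]; group⟩
    rcases eq_or_inv_of_card_three hT3 hd hd1 hrd (fun e => hd1 (conj_eq_one_iff.1 e)) with e | e
    · exact hd1 (hfixr d hd.1 e)
    · have e2 : t * d * t⁻¹ = d := by
        calc t * d * t⁻¹ = r * (r * d * r⁻¹) * r⁻¹ := by simp only [t]; group
          _ = r * d⁻¹ * r⁻¹ := by rw [e]
          _ = (r * d * r⁻¹)⁻¹ := by group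
          _ = d := by rw [e, inv_inv]
      rw [hd.2] at e2
      refine hd1 (orderOf_eq_one_iff.1 ?_)
      have h3 : orderOf d ∣ 3 := hT3 ▸ Subgroup.orderOf_dvd_natCard _ hd
      have h2 : orderOf d ∣ 2 := orderOf_dvd_of_pow_eq_one (by
        rw [pow_two]; nth_rewrite 1 [← e2]; exact inv_mul_cancel d)
      exact Nat.dvd_one.1 (by simpa using Nat.dvd_gcd h2 h3)
  -- uniqueness of an inversion
  have huniq : ∀ g ∈ R, ∀ g' ∈ R, (∀ w ∈ (P : Subgroup G), g * w * g⁻¹ = w⁻¹) →
      (∀ w ∈ (P : Subgroup G), g' * w * g'⁻¹ = w⁻¹) → g = g' := by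
    intro g hg g' hg' h h'
    refine inv_mul_eq_one.1 (htriv (g⁻¹ * g') (mul_mem (inv_mem hg) hg') fun w hw => ?_)
    refine conj_eq_self_iff.1 ?_
    calc g⁻¹ * g' * w * (g⁻¹ * g')⁻¹ = g⁻¹ * (g' * w * g'⁻¹) * g := by group
      _ = g⁻¹ * (g * w * g⁻¹) * g := by rw [h' w hw, h w hw]
      _ = w := by group
  suffices h : ∃ s ∈ R, orderOf s = 2 ∧ ∀ w ∈ (P : Subgroup G), s * w * s⁻¹ = w⁻¹ by
    obtain ⟨s, hs, hs2, hsP⟩ := h
    exact ⟨R, s, hRN, hR, hfix, htriv, hs, hs2, hsP, fun g hg hg2 =>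
      huniq _ (mul_mem hg hg) _ hs (hsq g hg hg2) hsP⟩
  by_cases hexp : ∃ r ∈ R, r * r ≠ 1
  · obtain ⟨r, hr, hr2⟩ := hexp
    refine ⟨r * r, mul_mem hr hr, orderOf_eq_prime ?_ hr2, hsq r hr hr2⟩
    obtain ⟨k, hk⟩ := hord r hr
    rw [show (r * r) ^ 2 = r ^ 4 by simp only [pow_succ, pow_zero, one_mul, mul_assoc], hk, pow_mul, pow_orderOf_eq_one, one_pow]
  · push Not at hexp
    by_contra hno
    push Not at hno
    -- every involution fixes a line
    have hline : ∀ g ∈ R, g ≠ 1 → ∃ f ∈ (P : Subgroup G), f ≠ 1 ∧ g * f = f * g := by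
      intro g hg hg1
      obtain ⟨w, hw, hgw⟩ := hno g hg (orderOf_eq_prime (by rw [pow_two]; exact hexp g hg) hg1)
      refine ⟨w * (g * w * g⁻¹), mul_mem hw (hconj g hg w hw),
        fun e => hgw (eq_inv_of_mul_eq_one_right e), conj_eq_self_iff.1 ?_⟩
      have h1 : g * (g * w * g⁻¹) * g⁻¹ = w := by
        calc g * (g * w * g⁻¹) * g⁻¹ = (g * g) * w * (g * g)⁻¹ := by group
          _ = w := by rw [hexp g hg]; group
      calc g * (w * (g * w * g⁻¹)) * g⁻¹ = (g * w * g⁻¹) * (g * (g * w * g⁻¹) * g⁻¹) := by group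
        _ = _ := by rw [h1]; exact comm_of_mem hab (hconj g hg w hw) hw
    obtain ⟨r1, hr1, hr11⟩ : ∃ r ∈ R, r ≠ 1 := by
      refine (Subgroup.bot_or_exists_ne_one R).resolve_left fun e => ?_
      rw [e, Subgroup.card_bot] at hR
      norm_num at hR
    obtain ⟨r2, hr2, hr21⟩ : ∃ r ∈ R, r ∉ zpowers r1 := by
      by_contra h
      push Not at h
      have := Nat.le_of_dvd Nat.card_pos (Subgroup.card_dvd_of_le (show R ≤ zpowers r1 from h))
      rw [hR, Nat.card_zpowers, orderOf_eq_prime (by rw [pow_two]; exact hexp r1 hr1) hr11] at this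
      omega
    have hR' : ∀ (w : G), r1 * w = w * r1 → r2 * w = w * r2 → ∀ g ∈ R, g * w = w * g := by
      intro w h1 h2
      set H := R ⊓ centralizer ({w} : Set G)
      have e1 : r1 ∈ H := ⟨hr1, mem_centralizer_singleton_iff.2 h1⟩
      have e2 : r2 ∈ H := ⟨hr2, mem_centralizer_singleton_iff.2 h2⟩
      have hlt : zpowers r1 < H := lt_of_le_of_ne (zpowers_le.2 e1) fun e => hr21 (e.symm ▸ e2)
      have hd : Nat.card H ∣ 2 ^ 2 := by
        have h := Subgroup.card_dvd_of_le (inf_le_left : H ≤ R)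
        rwa [hR] at h
      have h2 : 2 < Nat.card H := by
        refine lt_of_le_of_ne ?_ fun e => hlt.ne (Subgroup.eq_of_le_of_card_ge hlt.le ?_)
        · have := Nat.le_of_dvd Nat.card_pos (Subgroup.card_dvd_of_le hlt.le)
          rwa [Nat.card_zpowers, orderOf_eq_prime (by rw [pow_two]; exact hexp r1 hr1) hr11] at this
        · rw [Nat.card_zpowers, orderOf_eq_prime (by rw [pow_two]; exact hexp r1 hr1) hr11, ← e]
      obtain ⟨i, hi, hHi⟩ := (Nat.dvd_prime_pow Nat.prime_two).1 hd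
      have hH : H = R := Subgroup.eq_of_le_of_card_ge inf_le_left (by
        rw [hR]; interval_cases i <;> simp_all)
      intro g hg
      exact mem_centralizer_singleton_iff.1 ((hH.symm ▸ hg : g ∈ H).2)
    have hr2one : r2 ≠ 1 := fun e => hr21 (e ▸ one_mem _)
    obtain ⟨f1, hf1, hf11, hr1f⟩ := hline r1 hr1 hr11
    obtain ⟨f2, hf2, hf21, hr2f⟩ := hline r2 hr2 hr2one
    -- an element fixed by `a` is inverted by `b`
    have hkey : ∀ a ∈ R, ∀ b ∈ R, a ≠ 1 → (∀ w, a * w = w * a → b * w = w * b → ∀ g ∈ R, g * w = w * g) →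
        ∀ f ∈ (P : Subgroup G), f ≠ 1 → a * f = f * a → b * f * b⁻¹ = f⁻¹ := by
      intro a ha b hb ha1 hgen f hf hf1 haf
      set F := (P : Subgroup G) ⊓ centralizer ({a} : Set G)
      have hfF : f ∈ F := ⟨hf, mem_centralizer_singleton_iff.2 haf.symm⟩
      have hF3 : Nat.card F = 3 := card_eq_three hP inf_le_left
        (fun e => hf1 (by rw [e] at hfF; exact hfF))
        fun e => ha1 (htriv a ha fun w hw =>
          (mem_centralizer_singleton_iff.1 ((e.symm ▸ hw : w ∈ F).2)).symm)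
      have hbf : b * f * b⁻¹ ∈ F := ⟨hconj b hb f hf, mem_centralizer_singleton_iff.2 (by
        refine (conj_eq_self_iff.1 ?_).symm
        rw [hcomp a ha b hb, conj_eq_self_iff.2 haf])⟩
      rcases eq_or_inv_of_card_three hF3 hfF hf1 hbf (fun e => hf1 (conj_eq_one_iff.1 e)) with e | e
      · exact absurd (hfix f hf (hgen f haf (conj_eq_self_iff.1 e))) hf1
      · exact e
    have h21 := hkey r1 hr1 r2 hr2 hr11 hR' f1 hf1 hf11 hr1f
    have h12 := hkey r2 hr2 r1 hr1 hr2one (fun w a b => hR' w b a) f2 hf2 hf21 hr2f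
    set T := invPart (P : Subgroup G) hab (r1 * r2)
    have hT1 : f1 ∈ T := ⟨hf1, by
      calc r1 * r2 * f1 * (r1 * r2)⁻¹ = r1 * (r2 * f1 * r2⁻¹) * r1⁻¹ := by group
        _ = (r1 * f1 * r1⁻¹)⁻¹ := by rw [h21]; group
        _ = f1⁻¹ := by rw [conj_eq_self_iff.2 hr1f]⟩
    have hT2 : f2 ∈ T := ⟨hf2, by
      calc r1 * r2 * f2 * (r1 * r2)⁻¹ = r1 * (r2 * f2 * r2⁻¹) * r1⁻¹ := by group
        _ = f2⁻¹ := by rw [conj_eq_self_iff.2 hr2f, h12]⟩
    have hTP : T = (P : Subgroup G) := by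
      by_contra hne
      have hT3 := card_eq_three hP (invPart_le hab (r1 * r2)) (fun e => hf11 (by
        have h : f1 ∈ invPart (P : Subgroup G) hab (r1 * r2) := hT1
        rw [e] at h; exact h)) hne
      rcases eq_or_inv_of_card_three hT3 hT1 hf11 hT2 hf21 with e | e
      · refine hf11 (hfix f1 hf1 (hR' f1 hr1f ?_))
        rw [← e]; exact hr2f
      · refine hf11 (hfix f1 hf1 (hR' f1 hr1f ?_))
        have h := ((show Commute r2 f2 from hr2f)).inv_right
        rw [e, inv_inv] at h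
        exact h
    have hne : r1 * r2 ≠ 1 := fun e => hr21 (by
      rw [← eq_inv_of_mul_eq_one_right e |>.symm.trans rfl] ; exact inv_mem (mem_zpowers r1))
    obtain ⟨w, hw, hgw⟩ := hno (r1 * r2) (mul_mem hr1 hr2)
      (orderOf_eq_prime (by rw [pow_two]; exact hexp _ (mul_mem hr1 hr2)) hne)
    exact hgw (hTP.symm ▸ hw : w ∈ T).2

end Exists

end Cfsg.Agent.Order2520
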