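import Cfsg.Agent.Lib.SmallSimple.CentralizerOrbits
import Cfsg.Agent.Lib.SmallSimple.Low
import Cfsg.Agent.Lib.Transfer.Burnside
import Cfsg.Agent.S1010
import Cfsg.Agent.S0985

/-!
# Simple groups of order 2520: Sylow numbers

No element of order 7 commutes with one of order 2 or 3, none of order 5 with one of order 3;
either the group is `A₇` or it has seventy Sylow 3-subgroups.
-/

set_option autoImplicit false
set_option linter.style.haveILetI false
set_option linter.unusedSectionVars false

namespace Cfsg.Agent.Order2520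

open Subgroup Cfsg.Agent.SmallSimple

variable {G : Type*} [Group G] [Finite G]

/-- An element of prime order normalising a subgroup `H` with `|H| ≢ 1` modulo that order fixes a
non-identity element of `H`. -/
theorem exists_fixed_ne_one {r : ℕ} [hr : Fact r.Prime] (H : Subgroup G) {a : G}
    (ha : a ∈ normalizer (H : Set G)) (har : a ^ r = 1) (hmod : Nat.card H % r ≠ 1) :
    ∃ y ∈ H, y ≠ 1 ∧ a * y = y * a := by
  classical
  haveI := Fintype.ofFinite H
  set N := normalizer (H : Set G)
  set σ : Equiv.Perm H := (normalizerMonoidHom H ⟨a, ha⟩).toEquiv with hσ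
  have hpow : σ ^ r = 1 := by
    have h1 : (⟨a, ha⟩ : N) ^ r = 1 := Subtype.ext (by simpa using har)
    have h2 : (normalizerMonoidHom H ⟨a, ha⟩) ^ r = 1 := by rw [← map_pow, h1, map_one]
    ext x
    have key : ∀ n : ℕ, ∀ z : H, (σ ^ n) z = ((normalizerMonoidHom H ⟨a, ha⟩) ^ n) z := by
      intro n
      induction n with
      | zero => intro z; rfl
      | succ n ih => intro z; rw [pow_succ, pow_succ, Equiv.Perm.mul_apply, MulAut.mul_apply, ih]; rfl
    rw [key, h2]; rfl
  have hc := Equiv.Perm.card_compl_support_modEq (σ := σ) (p := r) (n := 1) (by rw [pow_one]; exact hpow)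
  have h1 : (1 : H) ∈ σ.supportᶜ := by
    rw [Finset.mem_compl, Equiv.Perm.mem_support, not_not]
    exact map_one (normalizerMonoidHom H ⟨a, ha⟩)
  by_contra hno
  simp only [not_exists, not_and] at hno
  have hone : σ.supportᶜ = {1} := by
    refine Finset.eq_singleton_iff_unique_mem.2 ⟨h1, fun y hy => ?_⟩
    rw [Finset.mem_compl, Equiv.Perm.mem_support, not_not] at hy
    by_contra hne
    refine hno y.1 y.2 (fun h => hne (Subtype.ext h)) ?_
    have h2 : a * (y : G) * a⁻¹ = y := congrArg Subtype.val hy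
    exact mul_inv_eq_iff_eq_mul.1 h2
  rw [hone, Finset.card_singleton, ← Nat.card_eq_fintype_card] at hc
  exact hmod (Eq.trans hc.symm (Nat.mod_eq_of_lt hr.out.one_lt))

theorem not_comm_of_card (h : Nat.card G = 2520) [IsSimpleGroup G] : ¬ IsMulCommutative G := fun hc => by
  letI : CommGroup G := { ‹Group G› with mul_comm := fun a b => hc.is_comm.comm a b }
  have h1 : (Nat.card G).Prime := IsSimpleGroup.prime_card
  rw [h] at h1
  norm_num at h1

variable [IsSimpleGroup G] (hn : Nat.card G = 2520)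
include hn

theorem sylow_facts {p : ℕ} [hp : Fact p.Prime] (hd : p ∣ 2520) (P : Sylow p G) :
    Nat.card (Sylow p G) * Nat.card (normalizer ((P : Subgroup G) : Set G)) = 2520 ∧
    Nat.card (Sylow p G) % p = 1 ∧ 5 ≤ Nat.card (Sylow p G) ∧
    Nat.card (centralizer ((P : Subgroup G) : Set G)) ∣
      Nat.card (normalizer ((P : Subgroup G) : Set G)) ∧
    (IsMulCommutative (P : Subgroup G) → Nat.card (centralizer ((P : Subgroup G) : Set G)) ≠
      Nat.card (normalizer ((P : Subgroup G) : Set G))) := by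
  have hG := not_comm_of_card hn
  have hdG : p ∣ Nat.card G := hn ▸ hd
  refine ⟨hn ▸ card_sylow_mul_card_normalizer P, ?_, five_le_card_sylow hG hdG,
    Subgroup.card_dvd_of_le (SmallSimple.centralizer_le_normalizer _), fun _ h => ?_⟩
  · exact Eq.trans (card_sylow_modEq_one p G) (Nat.mod_eq_of_lt hp.out.one_lt)
  · exact not_hasNormalPComplement hG hdG (Transfer.hasNormalPComplement_of_normalizer_le_centralizer P
      (Subgroup.eq_of_le_of_card_ge (SmallSimple.centralizer_le_normalizer _) h.ge).ge)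

theorem card_centralizer_seven [Fact (Nat.Prime 7)] (P : Sylow 7 G) :
    Nat.card (centralizer ((P : Subgroup G) : Set G)) = 7 ∨
      Nat.card (centralizer ((P : Subgroup G) : Set G)) = 35 := by
  have hG := not_comm_of_card hn
  have hP : Nat.card (P : Subgroup G) = 7 :=
    card_sylow_subgroup (k := 1) (m := 360) (by rw [hn]; norm_num) (by norm_num) P
  haveI : IsCyclic (P : Subgroup G) := isCyclic_of_prime_card hP
  obtain ⟨hmul, hmod, hge, hCN, hne⟩ := sylow_facts hn (p := 7) (by norm_num) P
  have hne' := hne inferInstance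
  have hC7 : 7 ∣ Nat.card (centralizer ((P : Subgroup G) : Set G)) := by
    have h := Subgroup.card_dvd_of_le (Subgroup.le_centralizer (P : Subgroup G))
    rwa [hP] at h
  have hNd := card_normalizer_dvd P hP
  set C := Nat.card (centralizer ((P : Subgroup G) : Set G))
  set N := Nat.card (normalizer ((P : Subgroup G) : Set G))
  set n := Nat.card (Sylow 7 G)
  have h7N : 7 ∣ N := hC7.trans hCN
  have hd : n ∣ 360 := by
    obtain ⟨k, hk⟩ := h7N
    exact ⟨k, by rw [hk] at hmul; nlinarith⟩
  have key : ∀ d ∈ Nat.divisors 360, d % 7 = 1 → 5 ≤ d → d = 8 ∨ d = 15 ∨ d = 36 ∨ d = 120 := by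
    decide +kernel
  have hsmall : ∀ k, n = 1 + k * 7 → k ≤ 2 → C = 7 := by
    intro k hk hk2
    by_contra hne7
    obtain ⟨q, hq⟩ := hC7
    have hq1 : q ≠ 1 := fun h => hne7 (by rw [hq, h, mul_one])
    obtain ⟨r, hr, hrq⟩ := Nat.exists_prime_and_dvd hq1
    haveI : Fact r.Prime := ⟨hr⟩
    have hCG : C ∣ 2520 := hn ▸ Subgroup.card_subgroup_dvd_card _
    have hr7 : r ≠ 7 := by
      rintro rfl
      have h49 : 49 ∣ 2520 := ((Nat.mul_dvd_mul_left 7 hrq).trans hq.symm.dvd).trans hCG
      norm_num at h49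
    refine not_dvd_centralizer hG (by decide) (hn ▸ by norm_num) P hP hk (r := r) (n := 1) hr7 ?_
      (by rw [pow_one]; exact hrq.trans (Dvd.intro_left 7 hq.symm))
    rw [pow_one]
    intro hd
    have h1 : Nat.card (alternatingGroup (Fin k)) = 1 := by
      interval_cases k <;> rw [Nat.card_eq_fintype_card] <;> rfl
    rw [h1] at hd
    exact hr.ne_one (Nat.dvd_one.1 hd)
  rcases key n (Nat.mem_divisors.2 ⟨hd, by norm_num⟩) hmod hge with e | e | e | e <;> rw [e] at hmul
  · exact Or.inl (hsmall 1 (by omega) (by norm_num))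
  · exact Or.inl (hsmall 2 (by omega) (by norm_num))
  · have hN : N = 70 := by omega
    rw [hN] at hCN hNd hne'
    have k2 : ∀ d ∈ Nat.divisors 70, 7 ∣ d → 70 ∣ d * 6 → d ≠ 70 → d = 35 := by decide +kernel
    exact Or.inr (k2 C (Nat.mem_divisors.2 ⟨hCN, by norm_num⟩) hC7 hNd hne')
  · have hN : N = 21 := by omega
    rw [hN] at hCN hne'
    have k2 : ∀ d ∈ Nat.divisors 21, 7 ∣ d → d ≠ 21 → d = 7 := by decide +kernel
    exact Or.inl (k2 C (Nat.mem_divisors.2 ⟨hCN, by norm_num⟩) hC7 hne')

theorem not_three_dvd_centralizer_five [Fact (Nat.Prime 5)] (P : Sylow 5 G) :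
    ¬ 3 ∣ Nat.card (centralizer ((P : Subgroup G) : Set G)) := by
  have hG := not_comm_of_card hn
  have hP : Nat.card (P : Subgroup G) = 5 :=
    card_sylow_subgroup (k := 1) (m := 504) (by rw [hn]; norm_num) (by norm_num) P
  haveI : IsCyclic (P : Subgroup G) := isCyclic_of_prime_card hP
  obtain ⟨hmul, hmod, hge, hCN, hne⟩ := sylow_facts hn (p := 5) (by norm_num) P
  have hne' := hne inferInstance
  have hNd := card_normalizer_dvd P hP
  have hC5 : 5 ∣ Nat.card (centralizer ((P : Subgroup G) : Set G)) := by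
    have h := Subgroup.card_dvd_of_le (Subgroup.le_centralizer (P : Subgroup G))
    rwa [hP] at h
  have hidx : Nat.card (Sylow 5 G) = (normalizer ((P : Subgroup G) : Set G)).index :=
    Sylow.card_eq_index_normalizer P
  have hfac := fun (h : Nat.card (Sylow 5 G) = 6) => card_dvd_factorial (G := G)
    (H := normalizer ((P : Subgroup G) : Set G)) (fun ht => by
      have h2 := hidx.symm.trans h
      rw [ht, Subgroup.index_top] at h2
      omega)
  rw [← hidx] at hfac
  set C := Nat.card (centralizer ((P : Subgroup G) : Set G))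
  set N := Nat.card (normalizer ((P : Subgroup G) : Set G))
  set n := Nat.card (Sylow 5 G) with hndef
  have h5N : 5 ∣ N := hC5.trans hCN
  have hd : n ∣ 504 := by
    obtain ⟨k, hk⟩ := h5N
    exact ⟨k, by rw [hk] at hmul; nlinarith⟩
  have key : ∀ d ∈ Nat.divisors 504, d % 5 = 1 → 5 ≤ d →
      d = 6 ∨ d = 21 ∨ d = 36 ∨ d = 56 ∨ d = 126 := by
    decide +kernel
  intro h3
  rcases key n (Nat.mem_divisors.2 ⟨hd, by norm_num⟩) hmod hge with e | e | e | e | e
  · have h := hfac e
    rw [hn, e] at h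
    revert h
    decide
  · exact S1010.result e
  · rw [e] at hmul
    have hN : N = 70 := by omega
    exact absurd (h3.trans (hN ▸ hCN)) (by norm_num)
  · rw [e] at hmul
    have hN : N = 45 := by omega
    rw [hN] at hCN hNd hne'
    exact hne' (Nat.dvd_antisymm hCN (Nat.Coprime.dvd_of_dvd_mul_right (by norm_num) hNd))
  · rw [e] at hmul
    have hN : N = 20 := by omega
    exact absurd (h3.trans (hN ▸ hCN)) (by norm_num)

theorem not_commute_seven {a b : G} (ha : orderOf a = 7) (hb : orderOf b = 2 ∨ orderOf b = 3) :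
    ¬ Commute a b := by
  intro hc
  haveI : Fact (Nat.Prime 7) := ⟨by norm_num⟩
  obtain ⟨P, hP'⟩ := IsPGroup.exists_le_sylow (IsPGroup.of_card (p := 7) (n := 1)
    (by rw [Nat.card_zpowers, ha, pow_one]) : IsPGroup 7 (zpowers a))
  have hP : Nat.card (P : Subgroup G) = 7 :=
    card_sylow_subgroup (k := 1) (m := 360) (by rw [hn]; norm_num) (by norm_num) P
  have he : zpowers a = (P : Subgroup G) :=
    Subgroup.eq_of_le_of_card_ge hP' (by rw [hP, Nat.card_zpowers, ha])
  have hbC : b ∈ centralizer ((P : Subgroup G) : Set G) := by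
    intro y hy
    rw [← he] at hy
    obtain ⟨i, rfl⟩ := hy
    exact (hc.zpow_left i).eq
  have hd := Subgroup.orderOf_dvd_natCard _ hbC
  rcases card_centralizer_seven hn P with h | h <;> rw [h] at hd <;> rcases hb with h' | h' <;>
    rw [h'] at hd <;> norm_num at hd

theorem not_commute_five {a b : G} (ha : orderOf a = 5) (hb : orderOf b = 3) : ¬ Commute a b := by
  intro hc
  haveI : Fact (Nat.Prime 5) := ⟨by norm_num⟩
  obtain ⟨P, hP'⟩ := IsPGroup.exists_le_sylow (IsPGroup.of_card (p := 5) (n := 1)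
    (by rw [Nat.card_zpowers, ha, pow_one]) : IsPGroup 5 (zpowers a))
  have hP : Nat.card (P : Subgroup G) = 5 :=
    card_sylow_subgroup (k := 1) (m := 504) (by rw [hn]; norm_num) (by norm_num) P
  have he : zpowers a = (P : Subgroup G) :=
    Subgroup.eq_of_le_of_card_ge hP' (by rw [hP, Nat.card_zpowers, ha])
  have hbC : b ∈ centralizer ((P : Subgroup G) : Set G) := by
    intro y hy
    rw [← he] at hy
    obtain ⟨i, rfl⟩ := hy
    exact (hc.zpow_left i).eq
  exact not_three_dvd_centralizer_five hn P (hb ▸ Subgroup.orderOf_dvd_natCard _ hbC)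

/-- Either `A₇`, or seventy Sylow 3-subgroups. -/
theorem sylow_three [Fact (Nat.Prime 3)] :
    Nonempty (G ≃* alternatingGroup (Fin 7)) ∨ Nat.card (Sylow 3 G) = 70 := by
  have hG := not_comm_of_card hn
  obtain ⟨P⟩ : Nonempty (Sylow 3 G) := inferInstance
  have hP : Nat.card (P : Subgroup G) = 3 ^ 2 :=
    card_sylow_subgroup (k := 2) (m := 280) (by rw [hn]; norm_num) (by norm_num) P
  have hab : IsMulCommutative (P : Subgroup G) := IsPGroup.isMulCommutative_of_card_eq_prime_sq hP
  obtain ⟨hmul, hmod, hge, hCN, hne⟩ := sylow_facts hn (p := 3) (by norm_num) P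
  have hne' := hne hab
  have hidx := Sylow.card_eq_index_normalizer P
  set Nn := normalizer ((P : Subgroup G) : Set G) with hNn
  set N := Nat.card Nn with hNdef
  set n := Nat.card (Sylow 3 G)
  have h9N : 9 ∣ N := (show 9 = 3 ^ 2 by norm_num) ▸ hP ▸ Subgroup.card_dvd_of_le le_normalizer
  have hd : n ∣ 280 := by
    obtain ⟨k, hk⟩ := h9N
    exact ⟨k, by rw [hk] at hmul; nlinarith⟩
  have key : ∀ d ∈ Nat.divisors 280, d % 3 = 1 → 5 ≤ d →
      d = 7 ∨ d = 10 ∨ d = 28 ∨ d = 40 ∨ d = 70 ∨ d = 280 := by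
    decide +kernel
  have hno : ∀ r, r.Prime → r ∣ N → (r = 5 ∨ r = 7) → False := by
    intro r hr hrN h57
    haveI : Fact r.Prime := ⟨hr⟩
    obtain ⟨⟨a, haN⟩, ha⟩ := exists_prime_orderOf_dvd_card' (G := Nn) r hrN
    rw [Subgroup.orderOf_mk] at ha
    obtain ⟨y, hy, hy1, hay⟩ := exists_fixed_ne_one (r := r) (P : Subgroup G) haN
      (by rw [← ha, pow_orderOf_eq_one]) (by rw [hP]; rcases h57 with rfl | rfl <;> norm_num)
    have hyo : orderOf y ∣ 3 ^ 2 := hP ▸ Subgroup.orderOf_dvd_natCard _ hy
    obtain ⟨i, hi, hyi⟩ := (Nat.dvd_prime_pow Nat.prime_three).1 hyo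
    have hi0 : i ≠ 0 := fun h => hy1 (orderOf_eq_one_iff.1 (by rw [hyi, h, pow_zero]))
    have h3 : orderOf (y ^ 3 ^ (i - 1)) = 3 := by
      rw [orderOf_pow, hyi]
      interval_cases i <;> first | omega | norm_num
    rcases h57 with rfl | rfl
    · exact not_commute_five hn ha h3 ((show Commute a y from hay).pow_right _)
    · exact not_commute_seven hn ha (Or.inr h3) ((show Commute a y from hay).pow_right _)
  rcases key n (Nat.mem_divisors.2 ⟨hd, by norm_num⟩) hmod hge with e | e | e | e | e | e <;>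
    rw [e] at hmul
  · refine Or.inl (iso_alternating_of_index hG (H := Nn) (hidx.symm.trans e) (by norm_num) ?_)
    rw [hn]
    rfl
  · exact (hno 7 (by norm_num) (by omega) (Or.inr rfl)).elim
  · exact (hno 5 (by norm_num) (by omega) (Or.inl rfl)).elim
  · exact (hno 7 (by norm_num) (by omega) (Or.inr rfl)).elim
  · exact Or.inr e
  · exfalso
    apply hne'
    have hN : N = 9 := by omega
    refine Nat.dvd_antisymm hCN ?_
    rw [hN, show (9:ℕ) = 3 ^ 2 by norm_num, ← hP]
    haveI := hab
    exact Subgroup.card_dvd_of_le (Subgroup.le_centralizer _)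

end Cfsg.Agent.Order2520
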