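import Cfsg.Agent.Lib.Order2520.Centraliser

/-!
# Simple groups of order 2520: involutions

With the data of `Ctx`: all involutions are conjugate, the centraliser of an involution `e` of the
four-group of `C(x)` lies in `N(⟨x⟩)`, and an element of `N(P)` squares to the inversion.
-/

set_option autoImplicit false
set_option linter.style.haveILetI false
set_option linter.unusedSectionVars false

namespace Cfsg.Agent.Order2520

open Subgroup Cfsg.Agent.SmallSimple

theorem conj_conj_eq {G : Type*} [Group G] (a b d : G) :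
    a * (b * d * b⁻¹) * a⁻¹ = (a * b) * d * (a * b)⁻¹ := by group

variable {G : Type*} [Group G] [Finite G] [IsSimpleGroup G] [Fact (Nat.Prime 3)] (c : Ctx G)

namespace Ctx

include c

/-- The centraliser of `x`. -/
abbrev K : Subgroup G := centralizer ({c.x} : Set G)

/-- The normaliser of `⟨x⟩`. -/
abbrev L : Subgroup G := normalizer (zpowers c.x : Set G)

theorem x_ne_one : c.x ≠ 1 := fun e => by
  have h := c.hx3
  rw [e, orderOf_one] at h
  omega

theorem sx : c.s * c.x * c.s⁻¹ = c.x⁻¹ := c.hsP _ c.hx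

theorem s_sq : c.s * c.s = 1 := by
  rw [← pow_two, ← c.hs, pow_orderOf_eq_one]

theorem K_le_L : c.K ≤ c.L := fun a ha =>
  (mem_normalizer_zpowers_iff c.hx3).2
    (Or.inl (conj_eq_self_iff.2 (mem_centralizer_singleton_iff.1 ha)))

theorem mem_L_of_inv {g : G} (h : g * c.x * g⁻¹ = c.x⁻¹) : g ∈ c.L :=
  (mem_normalizer_zpowers_iff c.hx3).2 (Or.inr h)

theorem s_mem_L : c.s ∈ c.L := c.mem_L_of_inv c.sx

theorem not_mem_K_of_inv {g : G} (h : g * c.x * g⁻¹ = c.x⁻¹) : g ∉ c.K := fun hk => by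
  rw [conj_eq_self_iff.2 (mem_centralizer_singleton_iff.1 hk)] at h
  exact inv_ne_self c.hx3 h.symm

theorem s_not_mem_K : c.s ∉ c.K := c.not_mem_K_of_inv c.sx

theorem card_L : Nat.card c.L = 72 := by
  rw [card_normalizer_zpowers c.hx3 c.sx, c.hK]

theorem inv_of_mem_L {g : G} (hg : g ∈ c.L) (hgK : g ∉ c.K) : g * c.x * g⁻¹ = c.x⁻¹ :=
  ((mem_normalizer_zpowers_iff c.hx3).1 hg).resolve_left fun h =>
    hgK (mem_centralizer_singleton_iff.2 (conj_eq_self_iff.1 h))

theorem mul_mem_K {g g' : G} (h : g * c.x * g⁻¹ = c.x⁻¹) (h' : g' * c.x * g'⁻¹ = c.x⁻¹) :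
    g * g' ∈ c.K := by
  refine mem_centralizer_singleton_iff.2 (conj_eq_self_iff.1 ?_)
  rw [← conj_conj_eq, h']
  calc g * c.x⁻¹ * g⁻¹ = (g * c.x * g⁻¹)⁻¹ := by group
    _ = c.x := by rw [h, inv_inv]

theorem sq_mem_K {g : G} (hg : g ∈ c.L) : g * g ∈ c.K := by
  by_cases h : g ∈ c.K
  · exact mul_mem h h
  · exact c.mul_mem_K (c.inv_of_mem_L hg h) (c.inv_of_mem_L hg h)

theorem P_le_K : (c.P : Subgroup G) ≤ c.K := fun a ha =>
  mem_centralizer_singleton_iff.2 (comm_of_mem c.hab ha c.hx)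

theorem exists_fours : ∃ V : Subgroup G, Nat.card V = 4 ∧
    ∀ v, v ∈ V ↔ v ∈ c.K ∧ v ^ 4 = 1 := by
  set P' := c.P.subtype c.P_le_K with hP'
  have hnorm : normalizer ((P' : Subgroup c.K) : Set c.K) ≤ centralizer ((P' : Subgroup c.K) : Set c.K) := by
    intro g hg a ha
    have h1 : g • P' = P' := smul_sylow_eq_iff.2 hg
    rw [hP', Sylow.smul_subtype] at h1
    have h2 : (g : G) ∈ normalizer ((c.P : Subgroup G) : Set G) ⊓ c.K :=
      ⟨smul_sylow_eq_iff.1 (Sylow.subtype_injective h1), g.2⟩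
    rw [c.hNK] at h2
    exact Subtype.ext (comm_of_mem c.hab (mem_subgroupOf.1 ha) h2)
  obtain ⟨Q, N, hN, hc⟩ := Transfer.hasNormalPComplement_of_normalizer_le_centralizer P' hnorm
  haveI := hN
  have hQ : Nat.card (Q : Subgroup c.K) = 9 := by
    have := card_sylow_subgroup (p := 3) (k := 2) (m := 4) (by rw [c.hK]; norm_num) (by norm_num) Q
    simpa using this
  have hN4 : Nat.card N = 4 := by
    have := hc.card_mul
    rw [hQ, c.hK] at this
    omega
  have hidx : N.index = 9 := by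
    have := Subgroup.card_mul_index N
    rw [hN4, c.hK] at this
    omega
  refine ⟨N.map c.K.subtype, by rw [Subgroup.card_map_of_injective (Subgroup.subtype_injective _), hN4],
    fun v => ⟨?_, fun hv => ?_⟩⟩
  · rintro ⟨w, hw, rfl⟩
    refine ⟨w.2, ?_⟩
    obtain ⟨k, hk⟩ := (hN4 ▸ Subgroup.orderOf_dvd_natCard _ hw : orderOf w ∣ 4)
    show (w : G) ^ 4 = 1
    rw [← Subgroup.coe_pow, hk, pow_mul, pow_orderOf_eq_one, one_pow, OneMemClass.coe_one]
  · refine ⟨⟨v, hv.1⟩, ?_, rfl⟩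
    have h4 : (⟨v, hv.1⟩ : c.K) ^ 4 = 1 := Subtype.ext hv.2
    have h9 := Subgroup.pow_index_mem N (⟨v, hv.1⟩ : c.K)
    rw [hidx, show (⟨v, hv.1⟩ : c.K) ^ 9 = ⟨v, hv.1⟩ * ((⟨v, hv.1⟩ : c.K) ^ 4) ^ 2 by
      simp only [pow_succ, pow_zero, one_mul, mul_assoc], h4, one_pow, mul_one] at h9
    exact h9

/-- The Sylow 2-subgroup of `C(x)`. -/
noncomputable def V : Subgroup G := c.exists_fours.choose

theorem card_V : Nat.card c.V = 4 := c.exists_fours.choose_spec.1

theorem mem_V {v : G} : v ∈ c.V ↔ v ∈ c.K ∧ v ^ 4 = 1 := c.exists_fours.choose_spec.2 v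

theorem V_le_K : c.V ≤ c.K := fun _ hv => (c.mem_V.1 hv).1

theorem conj_mem_V {g v : G} (hg : g ∈ c.L) (hv : v ∈ c.V) : g * v * g⁻¹ ∈ c.V := by
  obtain ⟨hvK, hv4⟩ := c.mem_V.1 hv
  refine c.mem_V.2 ⟨?_, by rw [conj_pow, hv4, mul_one, mul_inv_cancel]⟩
  have hvx := mem_centralizer_singleton_iff.1 hvK
  refine mem_centralizer_singleton_iff.2 ?_
  rcases (mem_normalizer_zpowers_iff c.hx3).1 hg with h | h
  · calc g * v * g⁻¹ * c.x = g * v * g⁻¹ * (g * c.x * g⁻¹) := by rw [h]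
      _ = g * (v * c.x) * g⁻¹ := by group
      _ = g * c.x * g⁻¹ * (g * v * g⁻¹) := by rw [hvx]; group
      _ = _ := by rw [h]
  · have e : g * v * g⁻¹ * c.x⁻¹ = c.x⁻¹ * (g * v * g⁻¹) := by
      rw [← h]
      calc g * v * g⁻¹ * (g * c.x * g⁻¹) = g * (v * c.x) * g⁻¹ := by group
        _ = _ := by rw [hvx]; group
    exact (Commute.inv_right_iff.1 (show Commute (g * v * g⁻¹) c.x⁻¹ from e)).eq

theorem pow_nine {u : G} (hu : u ∈ (c.P : Subgroup G)) : u ^ 9 = 1 := by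
  obtain ⟨k, hk⟩ := (c.hP ▸ Subgroup.orderOf_dvd_natCard _ hu : orderOf u ∣ 9)
  rw [hk, pow_mul, pow_orderOf_eq_one, one_pow]

theorem fpf {u v : G} (hu : u ∈ (c.P : Subgroup G)) (hux : u ∉ zpowers c.x) (hv : v ∈ c.V)
    (h : u * v = v * u) : v = 1 := by
  obtain ⟨hvK, hv4⟩ := c.mem_V.1 hv
  set F := (c.P : Subgroup G) ⊓ centralizer ({v} : Set G)
  have hxF : c.x ∈ F := ⟨c.hx, mem_centralizer_singleton_iff.2
    (mem_centralizer_singleton_iff.1 hvK).symm⟩
  have huF : u ∈ F := ⟨hu, mem_centralizer_singleton_iff.2 h⟩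
  have hFP : F = (c.P : Subgroup G) := by
    by_contra hne
    have h3 := card_eq_three c.hP inf_le_left (fun e => c.x_ne_one (by
      have h : c.x ∈ (c.P : Subgroup G) ⊓ centralizer ({v} : Set G) := hxF
      rw [e] at h; exact h)) hne
    have : zpowers c.x = F := Subgroup.eq_of_le_of_card_ge (zpowers_le.2 hxF)
      (by rw [h3, Nat.card_zpowers, c.hx3])
    exact hux (this ▸ huF)
  have hvC : v ∈ centralizer ((c.P : Subgroup G) : Set G) := fun w hw =>
    mem_centralizer_singleton_iff.1 ((hFP.symm ▸ hw : w ∈ F).2)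
  rw [c.hCP] at hvC
  calc v = v ^ 9 * ((v ^ 4) ^ 2)⁻¹ := by group
    _ = 1 := by rw [c.pow_nine hvC, hv4, one_pow, inv_one, one_mul]

theorem exists_u : ∃ u ∈ (c.P : Subgroup G), u ∉ zpowers c.x := by
  by_contra h
  push Not at h
  have := Nat.le_of_dvd Nat.card_pos (Subgroup.card_dvd_of_le (show (c.P : Subgroup G) ≤ zpowers c.x from h))
  rw [c.hP, Nat.card_zpowers, c.hx3] at this
  omega

theorem sq_eq_one {v : G} (hv : v ∈ c.V) : v * v = 1 := by
  by_contra h2
  obtain ⟨u, hu, hux⟩ := c.exists_u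
  have hv4 := (c.mem_V.1 hv).2
  have hgen : zpowers v = c.V := by
    refine Subgroup.eq_of_le_of_card_ge (zpowers_le.2 hv) ?_
    rw [c.card_V, Nat.card_zpowers]
    obtain ⟨i, hi, hvi⟩ := (Nat.dvd_prime_pow Nat.prime_two).1
      (show orderOf v ∣ 2 ^ 2 from orderOf_dvd_of_pow_eq_one hv4)
    interval_cases i
    · have h1 : v = 1 := orderOf_eq_one_iff.1 (by simpa using hvi)
      exact absurd (by rw [h1, one_mul]) h2
    · refine absurd ?_ h2
      rw [← pow_two, show (2 : ℕ) = 2 ^ 1 by norm_num, ← hvi, pow_orderOf_eq_one]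
    · rw [hvi]; norm_num
  have hmem := c.conj_mem_V (c.K_le_L (c.P_le_K hu)) hv
  rw [← hgen] at hmem
  obtain ⟨i, hi⟩ := mem_zpowers_iff.1 hmem
  have h2' : u * u * v * (u * u)⁻¹ = v := by
    rw [← conj_conj_eq, ← hi]
    have e : ∀ j : ℤ, u * v ^ j * u⁻¹ = (u * v * u⁻¹) ^ j := fun j => by rw [conj_zpow]
    rw [e, ← hi, ← zpow_mul]
    have hodd : ∃ j : ℤ, i * i = 1 + 4 * j := by
      rcases Int.even_or_odd i with ⟨j, hj⟩ | ⟨j, hj⟩
      · exfalso
        have e2 : u * (v * v) * u⁻¹ = 1 := by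
          rw [show u * (v * v) * u⁻¹ = (u * v * u⁻¹) * (u * v * u⁻¹) by group, ← hi, ← zpow_add, hj,
            show j + j + (j + j) = 4 * j by ring, zpow_mul,
            show v ^ (4 : ℤ) = 1 by rw [show (4 : ℤ) = ((4 : ℕ) : ℤ) by norm_num, zpow_natCast]; exact hv4,
            one_zpow]
        exact h2 (conj_eq_one_iff.1 e2)
      · exact ⟨j * j + j, by rw [hj]; ring⟩
    obtain ⟨j, hj⟩ := hodd
    rw [hj, zpow_add, zpow_one, zpow_mul,
      show v ^ (4 : ℤ) = 1 by rw [show (4 : ℤ) = ((4 : ℕ) : ℤ) by norm_num, zpow_natCast]; exact hv4,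
      one_zpow, mul_one]
  have hc : Commute u v := by
    have h5 := (show Commute (u * u) v from conj_eq_self_iff.1 h2').pow_left 5
    have : (u * u) ^ 5 = u * u ^ 9 := by simp only [pow_succ, pow_zero, one_mul, mul_assoc]
    rwa [this, c.pow_nine hu, mul_one] at h5
  exact h2 (by rw [c.fpf hu hux hv hc.eq, one_mul])

theorem comm_V {v w : G} (hv : v ∈ c.V) (hw : w ∈ c.V) : v * w = w * v := by
  calc v * w = v * (v * w * (v * w)) * w := by rw [c.sq_eq_one (mul_mem hv hw), mul_one]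
    _ = v * v * (w * v) * (w * w) := by group
    _ = w * v := by rw [c.sq_eq_one hv, c.sq_eq_one hw, one_mul, mul_one]

theorem orderOf_V {v : G} (hv : v ∈ c.V) (hv1 : v ≠ 1) : orderOf v = 2 :=
  orderOf_eq_prime (by rw [pow_two]; exact c.sq_eq_one hv) hv1

theorem s_moves : ∃ v ∈ c.V, c.s * v * c.s⁻¹ ≠ v := by
  by_contra h
  push Not at h
  obtain ⟨u, hu, hux⟩ := c.exists_u
  obtain ⟨v, hv, hv1⟩ : ∃ v ∈ c.V, v ≠ 1 := by
    refine (Subgroup.bot_or_exists_ne_one c.V).resolve_left fun e => ?_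
    have := c.card_V
    rw [e, Subgroup.card_bot] at this
    norm_num at this
  have h1 := h _ (c.conj_mem_V (c.K_le_L (c.P_le_K hu)) hv)
  have e : c.s * (u * v * u⁻¹) * c.s⁻¹ = u⁻¹ * v * u := by
    calc c.s * (u * v * u⁻¹) * c.s⁻¹ = (c.s * u * c.s⁻¹) * (c.s * v * c.s⁻¹) * (c.s * u * c.s⁻¹)⁻¹ := by
          group
      _ = _ := by rw [c.hsP u hu, h v hv, inv_inv]
  rw [e] at h1
  have hc : Commute (u * u) v := by
    refine conj_eq_self_iff.1 ?_
    calc u * u * v * (u * u)⁻¹ = u * (u * v * u⁻¹) * u⁻¹ := by group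
      _ = u * (u⁻¹ * v * u) * u⁻¹ := by rw [h1]
      _ = v := by group
  have h5 := hc.pow_left 5
  rw [show (u * u) ^ 5 = u * u ^ 9 by simp only [pow_succ, pow_zero, one_mul, mul_assoc],
    c.pow_nine hu, mul_one] at h5
  exact hv1 (c.fpf hu hux hv h5.eq)

theorem exists_fixed {g : G} (hg : g ∈ c.L) (hg2 : g * g = 1) :
    ∃ v ∈ c.V, v ≠ 1 ∧ g * v = v * g := by
  haveI : Fact (Nat.Prime 2) := ⟨Nat.prime_two⟩
  refine exists_fixed_ne_one (r := 2) c.V (mem_normalizer_iff.2 fun a => ⟨c.conj_mem_V hg, fun h => ?_⟩)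
    (by rw [pow_two]; exact hg2) (by rw [c.card_V]; norm_num)
  have := c.conj_mem_V (inv_mem hg) h
  rwa [inv_inv, show g⁻¹ * (g * a * g⁻¹) * g = a by group] at this

/-- The involution of `V` centralised by `s`. -/
noncomputable def e : G := (c.exists_fixed c.s_mem_L c.s_sq).choose

theorem e_mem : c.e ∈ c.V := (c.exists_fixed c.s_mem_L c.s_sq).choose_spec.1

theorem e_ne_one : c.e ≠ 1 := (c.exists_fixed c.s_mem_L c.s_sq).choose_spec.2.1

theorem s_comm_e : c.s * c.e = c.e * c.s := (c.exists_fixed c.s_mem_L c.s_sq).choose_spec.2.2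

theorem orderOf_e : orderOf c.e = 2 := c.orderOf_V c.e_mem c.e_ne_one

/-- The dihedral Sylow 2-subgroup `V⟨s⟩`. -/
noncomputable abbrev D : Subgroup G := c.V ⊔ zpowers c.s

theorem card_D : Nat.card c.D = 8 := by
  have hn : zpowers c.s ≤ normalizer (c.V : Set G) := zpowers_le.2 (mem_normalizer_iff.2 fun a =>
    ⟨c.conj_mem_V c.s_mem_L, fun h => by
      have := c.conj_mem_V (inv_mem c.s_mem_L) h
      rwa [inv_inv, show c.s⁻¹ * (c.s * a * c.s⁻¹) * c.s = a by group] at this⟩)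
  have hle : c.V ≤ c.D := le_sup_left
  have hdisj : (c.V.subgroupOf (zpowers c.s)) = ⊥ := by
    rw [eq_bot_iff]
    rintro ⟨y, hy⟩ hy'
    rw [mem_bot]
    refine Subtype.ext ?_
    rw [mem_subgroupOf] at hy'
    obtain ⟨i, hi⟩ := mem_zpowers_iff.1 hy
    rcases Int.even_or_odd i with ⟨j, hj⟩ | ⟨j, hj⟩
    · show y = 1
      rw [← hi, hj, ← two_mul, zpow_mul, zpow_two, c.s_sq, one_zpow]
    · exfalso
      refine c.s_not_mem_K ?_
      have : c.s = y := by
        rw [← hi, hj, zpow_add, zpow_mul, zpow_two, c.s_sq, one_zpow, one_mul, zpow_one]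
      exact this ▸ c.V_le_K hy'
  have h1 := Coprime.relIndex_sup_right_of_le_normalizer hn
  have h2 : c.V.relIndex (zpowers c.s) = 2 := by
    rw [Subgroup.relIndex, hdisj, Subgroup.index_bot, Nat.card_zpowers, c.hs]
  have h3 := Subgroup.card_mul_index (c.V.subgroupOf c.D)
  rw [Nat.card_congr (subgroupOfEquivOfLe hle).toEquiv, c.card_V] at h3
  have h4 : (c.V.subgroupOf c.D).index = 2 := by
    rw [← h2, ← h1]
    show c.V.relIndex (c.V ⊔ zpowers c.s) = c.V.relIndex (zpowers c.s ⊔ c.V)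
    rw [sup_comm]
  omega

/-- All involutions are conjugate. -/
theorem isConj_of_orderOf {w : G} (hw : orderOf w = 2) : IsConj w c.e := by
  haveI : Fact (Nat.Prime 2) := ⟨Nat.prime_two⟩
  obtain ⟨v, hv, hsv⟩ := c.s_moves
  set r := c.s * v with hr
  have hrD : r ∈ c.D := mul_mem (mem_sup_right (mem_zpowers _)) (mem_sup_left hv)
  have hrr : r * r = c.s * v * c.s⁻¹ * v := by
    rw [hr, show c.s⁻¹ = c.s from inv_eq_of_mul_eq_one_right c.s_sq]; group
  have hrV : r * r ∈ c.V := by rw [hrr]; exact mul_mem (c.conj_mem_V c.s_mem_L hv) hv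
  have hr1 : r * r ≠ 1 := fun h => hsv (by
    rw [hrr, mul_eq_one_iff_eq_inv, inv_eq_of_mul_eq_one_right (c.sq_eq_one hv)] at h
    exact h)
  have hro : orderOf r = 4 := by
    have h4 : r ^ 4 = 1 := by
      rw [show r ^ 4 = r * r * (r * r) by simp only [pow_succ, pow_zero, one_mul, mul_assoc],
        c.sq_eq_one hrV]
    exact orderOf_eq_prime_pow (p := 2) (n := 1) (by rw [pow_one, pow_two]; exact hr1)
      (by simpa using h4)
  obtain ⟨S, hS⟩ := IsPGroup.exists_le_sylow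
    (IsPGroup.of_card (p := 2) (n := 3) (by rw [c.card_D]; norm_num) : IsPGroup 2 c.D)
  have hS8 : Nat.card (S : Subgroup G) = 8 := by
    have := card_sylow_subgroup (p := 2) (k := 3) (m := 315) (by rw [c.hn]; norm_num) (by norm_num) S
    simpa using this
  have hQS : zpowers r ≤ (S : Subgroup G) := zpowers_le.2 (hS hrD)
  have hQi : (zpowers r).relIndex (S : Subgroup G) = 2 := by
    have h := Subgroup.card_mul_index ((zpowers r).subgroupOf (S : Subgroup G))
    rw [Nat.card_congr (subgroupOfEquivOfLe hQS).toEquiv, Nat.card_zpowers, hro, hS8] at h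
    show ((zpowers r).subgroupOf (S : Subgroup G)).index = 2
    omega
  -- every involution of `S` is conjugate to the square
  have hinS : ∀ u ∈ (S : Subgroup G), orderOf u = 2 → IsConj u (r * r) := by
    intro u hu hu2
    have hu2' : u ^ 2 = 1 := by rw [← hu2, pow_orderOf_eq_one]
    obtain ⟨g, hg⟩ : ∃ g : G, g * u * g⁻¹ ∈ zpowers r := by
      by_contra hno
      push Not at hno
      by_cases huQ : u ∈ zpowers r
      · exact hno 1 (by simpa using huQ)
      obtain ⟨M, hM, hidx, -⟩ :=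
        Transfer.exists_index_two_of_involution S (zpowers r) hQS hQi u hu2' hu huQ hno
      rcases hM.eq_bot_or_eq_top with e | e
      · rw [e, Subgroup.index_bot, c.hn] at hidx; norm_num at hidx
      · rw [e, Subgroup.index_top] at hidx; norm_num at hidx
    refine isConj_iff.2 ⟨g, ?_⟩
    obtain ⟨i, hi⟩ := mem_zpowers_iff.1 hg
    have ho : orderOf (g * u * g⁻¹) = 2 := by rw [← MulAut.conj_apply, MulEquiv.orderOf_eq, hu2]
    have h4 : r ^ i = r ^ (i % 4) := by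
      rw [show (4 : ℤ) = ((4 : ℕ) : ℤ) by norm_num, ← hro, zpow_mod_orderOf]
    rw [← hi, h4] at ho ⊢
    have hlo : 0 ≤ i % 4 := Int.emod_nonneg _ (by norm_num)
    have hhi : i % 4 < 4 := Int.emod_lt_of_pos _ (by norm_num)
    rcases (show i % 4 = 0 ∨ i % 4 = 1 ∨ i % 4 = 2 ∨ i % 4 = 3 by omega) with h | h | h | h <;>
      rw [h] at ho ⊢
    · rw [zpow_zero, orderOf_one] at ho; omega
    · rw [zpow_one, hro] at ho; omega
    · rw [zpow_two]
    · exfalso
      rw [show r ^ (3 : ℤ) = r⁻¹ by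
        rw [eq_inv_iff_mul_eq_one, ← zpow_add_one, show (3 : ℤ) + 1 = ((4 : ℕ) : ℤ) by norm_num,
          zpow_natCast, ← hro, pow_orderOf_eq_one], orderOf_inv, hro] at ho
      omega
  have he : IsConj c.e (r * r) := hinS _ (hS (mem_sup_left c.e_mem)) c.orderOf_e
  obtain ⟨T, hT⟩ := IsPGroup.exists_le_sylow (IsPGroup.of_card (p := 2) (n := 1)
    (by rw [Nat.card_zpowers, hw, pow_one]) : IsPGroup 2 (zpowers w))
  obtain ⟨g, hg⟩ := MulAction.exists_smul_eq G T S
  have hwS : g * w * g⁻¹ ∈ (S : Subgroup G) := by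
    rw [← hg, Sylow.coe_subgroup_smul]
    exact ⟨w, hT (mem_zpowers w), rfl⟩
  exact ((isConj_iff.2 ⟨g, rfl⟩ : IsConj w (g * w * g⁻¹)).trans
    (hinS _ hwS (by rw [← MulAut.conj_apply, MulEquiv.orderOf_eq, hw]))).trans he.symm

theorem centralizer_e_le : centralizer ({c.e} : Set G) ≤ c.L ∧
    Nat.card (centralizer ({c.e} : Set G)) = 24 := by
  set H := centralizer ({c.e} : Set G) with hH
  haveI : Fact (Nat.Prime 2) := ⟨Nat.prime_two⟩
  have hxH : c.x ∈ H := mem_centralizer_singleton_iff.2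
    (mem_centralizer_singleton_iff.1 (c.V_le_K c.e_mem)).symm
  have hDH : c.D ≤ H := sup_le (fun v hv => mem_centralizer_singleton_iff.2 (c.comm_V hv c.e_mem))
    (zpowers_le.2 (mem_centralizer_singleton_iff.2 c.s_comm_e))
  have hDL : c.D ≤ c.L := sup_le (c.V_le_K.trans c.K_le_L) (zpowers_le.2 c.s_mem_L)
  have hHL : Nat.card ↥(H ⊓ c.L) = 24 := by
    have h8 : 8 ∣ Nat.card ↥(H ⊓ c.L) := by
      have h := Subgroup.card_dvd_of_le (le_inf hDH hDL)
      rwa [c.card_D] at h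
    have h3 : 3 ∣ Nat.card ↥(H ⊓ c.L) := c.hx3 ▸ Subgroup.orderOf_dvd_natCard _
      (Subgroup.mem_inf.2 ⟨hxH, c.K_le_L (c.P_le_K c.hx)⟩)
    have h24 : 24 ∣ Nat.card ↥(H ⊓ c.L) :=
      Nat.Coprime.mul_dvd_of_dvd_of_dvd (by norm_num : Nat.Coprime 8 3) h8 h3
    have hle : Nat.card ↥(H ⊓ c.L) ∣ 72 := c.card_L ▸ Subgroup.card_dvd_of_le inf_le_right
    have hne : Nat.card ↥(H ⊓ c.L) ≠ 72 := by
      intro h
      have he : H ⊓ c.L = c.L := Subgroup.eq_of_le_of_card_ge inf_le_right (by rw [h, c.card_L])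
      obtain ⟨u, hu, hux⟩ := c.exists_u
      exact c.e_ne_one (c.fpf hu hux c.e_mem (mem_centralizer_singleton_iff.1
        (he.symm ▸ c.K_le_L (c.P_le_K hu) : u ∈ H ⊓ c.L).1))
    have key : ∀ d ∈ Nat.divisors 72, 24 ∣ d → d ≠ 72 → d = 24 := by decide +kernel
    exact key _ (Nat.mem_divisors.2 ⟨hle, by norm_num⟩) h24 hne
  have hHd : Nat.card H ∣ 2520 := c.hn ▸ Subgroup.card_subgroup_dvd_card _
  have h9 : ¬ 9 ∣ Nat.card H := by
    intro h9
    obtain ⟨R, hR⟩ := Sylow.exists_subgroup_card_pow_prime 3 (n := 2) (G := H) (by simpa using h9)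
    have hR' : Nat.card (R.map H.subtype) = 3 ^ 2 := by
      rw [Subgroup.card_map_of_injective (Subgroup.subtype_injective _), hR]
    obtain ⟨T, hT⟩ := IsPGroup.exists_le_sylow (IsPGroup.of_card hR')
    have hTe : (T : Subgroup G) = R.map H.subtype := (Subgroup.eq_of_le_of_card_ge hT (by
      rw [hR', card_sylow_subgroup (k := 2) (m := 280) (by rw [c.hn]; norm_num) (by norm_num) T])).symm
    obtain ⟨g, hg⟩ := MulAction.exists_smul_eq G c.P T
    have heC : g⁻¹ * c.e * g ∈ centralizer ((c.P : Subgroup G) : Set G) := by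
      intro w hw
      have h1 : g * w * g⁻¹ ∈ H := by
        have : g * w * g⁻¹ ∈ (T : Subgroup G) := by
          rw [← hg, Sylow.coe_subgroup_smul]; exact ⟨w, hw, rfl⟩
        rw [hTe] at this
        exact map_subtype_le _ this
      have h2 := mem_centralizer_singleton_iff.1 h1
      calc w * (g⁻¹ * c.e * g) = g⁻¹ * ((g * w * g⁻¹) * c.e) * g := by group
        _ = _ := by rw [h2]; group
    rw [c.hCP] at heC
    have ho : orderOf (g⁻¹ * c.e * g) = 2 := by
      rw [show g⁻¹ * c.e * g = MulAut.conj g⁻¹ c.e by simp [MulAut.conj_apply], MulEquiv.orderOf_eq,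
        c.orderOf_e]
    have := c.hP ▸ Subgroup.orderOf_dvd_natCard _ heC
    rw [ho] at this
    norm_num at this
  have h7 : ¬ 7 ∣ Nat.card H := by
    intro h7
    haveI : Fact (Nat.Prime 7) := ⟨by norm_num⟩
    obtain ⟨⟨a, haH⟩, ha⟩ := exists_prime_orderOf_dvd_card' (G := H) 7 h7
    rw [Subgroup.orderOf_mk] at ha
    exact not_commute_seven c.hn ha (Or.inl c.orderOf_e) (mem_centralizer_singleton_iff.1 haH)
  set Tx := (zpowers c.x).subgroupOf H with hTx
  have hTxle : zpowers c.x ≤ H := zpowers_le.2 hxH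
  have hTxc : Nat.card Tx = 3 := by
    rw [hTx, Nat.card_congr (subgroupOfEquivOfLe hTxle).toEquiv, Nat.card_zpowers, c.hx3]
  have hTxi : ¬ 3 ∣ Tx.index := fun h => h9 (by
    obtain ⟨k, hk⟩ := h
    exact ⟨k, by rw [← Subgroup.card_mul_index Tx, hTxc, hk]; ring⟩)
  set T := (IsPGroup.of_card (p := 3) (n := 1) (by rw [hTxc]; norm_num) : IsPGroup 3 Tx).toSylow hTxi
  have hTnorm : normalizer ((T : Subgroup H) : Set H) = (H ⊓ c.L).subgroupOf H := by
    ext ⟨g, hg⟩
    rw [mem_subgroupOf, Subgroup.mem_inf, and_iff_right hg, mem_normalizer_iff, mem_normalizer_iff]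
    refine ⟨fun h a => ⟨fun ha => ?_, fun ha => ?_⟩, fun h a => ?_⟩
    · exact mem_subgroupOf.1 ((h ⟨a, hTxle ha⟩).1 (mem_subgroupOf.2 ha))
    · have haH : a ∈ H := by
        have := mul_mem (mul_mem (inv_mem hg) (hTxle ha)) hg
        simpa [mul_assoc] using this
      exact mem_subgroupOf.1 ((h ⟨a, haH⟩).2 (mem_subgroupOf.2 ha))
    · show a ∈ Tx ↔ _ ∈ Tx
      rw [hTx, mem_subgroupOf, mem_subgroupOf]
      exact h a
  have hmul := card_sylow_mul_card_normalizer T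
  rw [hTnorm, Nat.card_congr (subgroupOfEquivOfLe (inf_le_left : H ⊓ c.L ≤ H)).toEquiv, hHL] at hmul
  have hmod : Nat.card (Sylow 3 H) % 3 = 1 :=
    Eq.trans (card_sylow_modEq_one 3 H) (Nat.mod_eq_of_lt (by norm_num))
  set n := Nat.card (Sylow 3 H)
  have hn105 : n ∣ 105 := by
    rw [← hmul, mul_comm] at hHd
    exact Nat.dvd_of_mul_dvd_mul_left (by norm_num) (show 24 * n ∣ 24 * 105 by exact hHd)
  have h7n : ¬ 7 ∣ n := fun h => h7 (h.trans (Dvd.intro _ hmul))
  have key : ∀ d ∈ Nat.divisors 105, d % 3 = 1 → ¬ 7 ∣ d → d = 1 := by decide +kernel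
  have hn1 := key n (Nat.mem_divisors.2 ⟨hn105, by norm_num⟩) hmod h7n
  rw [hn1, one_mul] at hmul
  exact ⟨inf_eq_left.1 (Subgroup.eq_of_le_of_card_ge inf_le_left (by rw [hHL, hmul])), hmul.symm⟩

theorem inf_K_data {g : G} (hg : g ∈ c.K) (hge : g * c.e = c.e * g) :
    g ^ 3 ∈ c.V ∧ g ^ 6 = 1 ∧ (orderOf g = 3 → g ∈ zpowers c.x) := by
  set X := c.K ⊓ centralizer ({c.e} : Set G)
  have hgX : g ∈ X := ⟨hg, mem_centralizer_singleton_iff.2 hge⟩
  have hVX : c.V ≤ X := le_inf c.V_le_K fun v hv => mem_centralizer_singleton_iff.2 (c.comm_V hv c.e_mem)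
  have hxX : c.x ∈ X := ⟨c.P_le_K c.hx, mem_centralizer_singleton_iff.2
    (mem_centralizer_singleton_iff.1 (c.V_le_K c.e_mem)).symm⟩
  have h12 : Nat.card X = 12 := by
    have h1 : Nat.card X ∣ 36 := c.hK ▸ Subgroup.card_dvd_of_le inf_le_left
    have h2 : Nat.card X ∣ 24 := c.centralizer_e_le.2 ▸ Subgroup.card_dvd_of_le inf_le_right
    have h3 : 4 * 3 ∣ Nat.card X := Nat.Coprime.mul_dvd_of_dvd_of_dvd (by norm_num)
      (c.card_V ▸ Subgroup.card_dvd_of_le hVX) (c.hx3 ▸ Subgroup.orderOf_dvd_natCard _ hxX)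
    exact Nat.dvd_antisymm (by simpa using Nat.dvd_gcd h1 h2) h3
  haveI : (c.V.subgroupOf X).Normal := ⟨fun a ha b =>
    mem_subgroupOf.2 (c.conj_mem_V (c.K_le_L b.2.1) (mem_subgroupOf.1 ha))⟩
  have hidx : (c.V.subgroupOf X).index = 3 := by
    have := Subgroup.card_mul_index (c.V.subgroupOf X)
    rw [Nat.card_congr (subgroupOfEquivOfLe hVX).toEquiv, c.card_V, h12] at this
    omega
  have h3 : g ^ 3 ∈ c.V := by
    have := Subgroup.pow_index_mem (c.V.subgroupOf X) (⟨g, hgX⟩ : X)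
    rw [hidx, mem_subgroupOf] at this
    simpa using this
  refine ⟨h3, by rw [show g ^ 6 = g ^ 3 * g ^ 3 by simp only [pow_succ, pow_zero, one_mul, mul_assoc],
    c.sq_eq_one h3], fun ho => ?_⟩
  set W := zpowers g ⊔ zpowers c.x
  have hn : zpowers g ≤ normalizer (zpowers c.x : Set G) := zpowers_le.2 (c.K_le_L hg)
  have hWX : W ≤ X := sup_le (zpowers_le.2 hgX) (zpowers_le.2 hxX)
  by_contra hgx
  have hr := Coprime.relIndex_sup_right_of_le_normalizer hn
  have h4 : (zpowers c.x).relIndex (zpowers g) = 3 := by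
    have hd : (zpowers c.x).relIndex (zpowers g) ∣ Nat.card (zpowers g) := Subgroup.index_dvd_card _
    rw [Nat.card_zpowers, ho] at hd
    refine ((Nat.dvd_prime Nat.prime_three).1 hd).resolve_left fun h1 => hgx ?_
    exact Subgroup.relIndex_eq_one.1 h1 (mem_zpowers g)
  have h5 := Subgroup.card_mul_index ((zpowers c.x).subgroupOf W)
  rw [Nat.card_congr (subgroupOfEquivOfLe (le_sup_right : zpowers c.x ≤ W)).toEquiv, Nat.card_zpowers,
    c.hx3] at h5
  have h6 : ((zpowers c.x).subgroupOf W).index = 3 := by rw [← h4, ← hr]; rfl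
  have := Subgroup.card_dvd_of_le hWX
  rw [← h5, h6, h12] at this
  norm_num at this

theorem three_mem_zpowers {y : G} (hy : y * c.e = c.e * y) (ho : orderOf y = 3) :
    y ∈ zpowers c.x := by
  have hL : y ∈ c.L := c.centralizer_e_le.1 (mem_centralizer_singleton_iff.2 hy)
  have h2 := c.sq_mem_K hL
  have hK : y ∈ c.K := by
    have := mul_mem h2 h2
    rwa [show y * y * (y * y) = y * y ^ 3 by simp only [pow_succ, pow_zero, one_mul, mul_assoc],
      ← ho, pow_orderOf_eq_one, mul_one] at this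
  exact (c.inf_K_data hK hy).2.2 ho

/-- An involution centralises at most one subgroup of order 3. -/
theorem three_unique {w y z : G} (hw : orderOf w = 2) (hy : y * w = w * y) (hz : z * w = w * z)
    (hyo : orderOf y = 3) (hzo : orderOf z = 3) : z ∈ zpowers y := by
  obtain ⟨g, hg⟩ := isConj_iff.1 (c.isConj_of_orderOf hw)
  have tr : ∀ {a : G}, a * w = w * a → orderOf a = 3 → g * a * g⁻¹ ∈ zpowers c.x := by
    intro a ha hao
    refine c.three_mem_zpowers ?_ (by rw [← MulAut.conj_apply, MulEquiv.orderOf_eq, hao])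
    rw [← hg]
    calc g * a * g⁻¹ * (g * w * g⁻¹) = g * (a * w) * g⁻¹ := by group
      _ = _ := by rw [ha]; group
  have h1 := tr hy hyo
  have e : zpowers (g * y * g⁻¹) = zpowers c.x := Subgroup.eq_of_le_of_card_ge (zpowers_le.2 h1)
    (by rw [Nat.card_zpowers, Nat.card_zpowers, ← MulAut.conj_apply, MulEquiv.orderOf_eq, hyo, c.hx3])
  have h2 := tr hz hzo
  rw [← e] at h2
  obtain ⟨i, hi⟩ := mem_zpowers_iff.1 h2
  rw [conj_zpow] at hi
  exact mem_zpowers_iff.2 ⟨i, mul_left_cancel (mul_right_cancel hi)⟩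

/-- An element inverting `x` and centralising `e` centralises no other involution of `V`. -/
theorem eq_of_fixed {A v : G} (hA : A * c.x * A⁻¹ = c.x⁻¹) (hAe : A * c.e = c.e * A)
    (hv : v ∈ c.V) (hAv : A * v = v * A) : v = 1 ∨ v = c.e := by
  by_contra h
  push Not at h
  set F := c.V ⊓ centralizer ({A} : Set G)
  have heF : c.e ∈ F := ⟨c.e_mem, mem_centralizer_singleton_iff.2 hAe.symm⟩
  have hvF : v ∈ F := ⟨hv, mem_centralizer_singleton_iff.2 hAv.symm⟩
  have hd : Nat.card F ∣ 2 ^ 2 := by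
    have := Subgroup.card_dvd_of_le (inf_le_left : F ≤ c.V)
    rwa [c.card_V] at this
  have hlt : zpowers c.e < F := lt_of_le_of_ne (zpowers_le.2 heF) fun e => by
    have hm : v ∈ zpowers c.e := e.symm ▸ hvF
    obtain ⟨i, hi⟩ := mem_zpowers_iff.1 hm
    have h2 : c.e ^ (2 : ℤ) = 1 := by rw [zpow_two]; exact c.sq_eq_one c.e_mem
    rcases Int.even_or_odd i with ⟨j, hj⟩ | ⟨j, hj⟩
    · exact h.1 (by rw [← hi, hj, ← two_mul, zpow_mul, h2, one_zpow])
    · exact h.2 (by rw [← hi, hj, zpow_add, zpow_mul, h2, one_zpow, one_mul, zpow_one])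
  have hFV : F = c.V := by
    refine Subgroup.eq_of_le_of_card_ge inf_le_left ?_
    rw [c.card_V]
    obtain ⟨i, hi, hFi⟩ := (Nat.dvd_prime_pow Nat.prime_two).1 hd
    interval_cases i
    · exact absurd ((Subgroup.card_eq_one.1 hFi) ▸ heF : c.e ∈ (⊥ : Subgroup G)) c.e_ne_one
    · exfalso
      exact hlt.ne (Subgroup.eq_of_le_of_card_ge hlt.le
        (by rw [hFi, Nat.card_zpowers, c.orderOf_e]; norm_num))
    · rw [hFi]; norm_num
  obtain ⟨w, hw, hsw⟩ := c.s_moves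
  have hAc : ∀ z ∈ c.V, A * z = z * A := fun z hz =>
    (mem_centralizer_singleton_iff.1 (hFV.symm ▸ hz : z ∈ F).2).symm
  set k := c.s * A
  have hk : k ∈ c.K := c.mul_mem_K c.sx hA
  have hact : ∀ z ∈ c.V, k * z * k⁻¹ = c.s * z * c.s⁻¹ := fun z hz => by
    rw [← conj_conj_eq, conj_eq_self_iff.2 (hAc z hz)]
  have hk2 : Commute (k * k) w := by
    refine conj_eq_self_iff.1 ?_
    rw [← conj_conj_eq, hact w hw, hact _ (c.conj_mem_V c.s_mem_L hw), conj_conj_eq, c.s_sq]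
    group
  have hk9 : Commute (k ^ 9) w := by
    haveI : (c.V.subgroupOf c.K).Normal := ⟨fun a ha b =>
      mem_subgroupOf.2 (c.conj_mem_V (c.K_le_L b.2) (mem_subgroupOf.1 ha))⟩
    have hidx : (c.V.subgroupOf c.K).index = 9 := by
      have := Subgroup.card_mul_index (c.V.subgroupOf c.K)
      rw [Nat.card_congr (subgroupOfEquivOfLe c.V_le_K).toEquiv, c.card_V, c.hK] at this
      omega
    have := Subgroup.pow_index_mem (c.V.subgroupOf c.K) (⟨k, hk⟩ : c.K)
    rw [hidx, mem_subgroupOf] at this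
    exact c.comm_V (by simpa using this) hw
  have hkw : Commute k w := by
    have h8 := (hk2.pow_left 4).inv_left.mul_left hk9
    rwa [show ((k * k) ^ 4)⁻¹ * k ^ 9 = k by
      rw [show k ^ 9 = (k * k) ^ 4 * k by simp only [pow_succ, pow_zero, one_mul, mul_assoc]]
      group] at h8
  exact hsw ((hact w hw).symm.trans (conj_eq_self_iff.2 hkw.eq))

/-- Some element of `N(P)` squares to an inversion. -/
theorem exists_rot {R : Subgroup G} {s : G} (hR : R ≤ normalizer ((c.P : Subgroup G) : Set G))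
    (hRc : Nat.card R = 4) (htriv : ∀ g ∈ R, (∀ w ∈ (c.P : Subgroup G), g * w = w * g) → g = 1)
    (hs : s ∈ R) (hsP : ∀ w ∈ (c.P : Subgroup G), s * w * s⁻¹ = w⁻¹)
    (hsq : ∀ g ∈ R, g * g ≠ 1 → g * g = s) :
    ∃ r ∈ normalizer ((c.P : Subgroup G) : Set G),
      ∀ w ∈ (c.P : Subgroup G), r * r * w * (r * r)⁻¹ = w⁻¹ := by
  by_cases hexp : ∃ r ∈ R, r * r ≠ 1
  · obtain ⟨r, hr, hr2⟩ := hexp
    exact ⟨r, hR hr, by rw [hsq r hr hr2]; exact hsP⟩
  exfalso
  push Not at hexp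
  obtain ⟨r1, hr1, hr1s⟩ : ∃ r ∈ R, r ∉ zpowers s := by
    by_contra h
    push Not at h
    have h1 := Nat.le_of_dvd Nat.card_pos (Subgroup.card_dvd_of_le (show R ≤ zpowers s from h))
    rw [hRc, Nat.card_zpowers] at h1
    have h2 : orderOf s ≤ 2 := Nat.le_of_dvd (by norm_num)
      (orderOf_dvd_of_pow_eq_one (by rw [pow_two]; exact hexp s hs))
    omega
  have hconj : ∀ w ∈ (c.P : Subgroup G), r1 * w * r1⁻¹ ∈ (c.P : Subgroup G) := fun w hw =>
    (mem_normalizer_iff.1 (hR hr1) w).1 hw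
  have hr11 : r1 ≠ 1 := fun e => hr1s (e ▸ one_mem _)
  have hr1o : orderOf r1 = 2 := orderOf_eq_prime (by rw [pow_two]; exact hexp r1 hr1) hr11
  obtain ⟨w, hw, hww⟩ : ∃ w ∈ (c.P : Subgroup G), r1 * w * r1⁻¹ ≠ w⁻¹ := by
    by_contra h
    push Not at h
    refine hr1s ?_
    have e : s⁻¹ * r1 = 1 := htriv _ (mul_mem (inv_mem hs) hr1) fun w hw => conj_eq_self_iff.1 (by
      calc s⁻¹ * r1 * w * (s⁻¹ * r1)⁻¹ = s⁻¹ * (r1 * w * r1⁻¹) * s := by group
        _ = s⁻¹ * (s * w * s⁻¹) * s := by rw [h w hw, hsP w hw]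
        _ = w := by group)
    rw [← inv_mul_eq_one.1 e]
    exact mem_zpowers s
  set f := w * (r1 * w * r1⁻¹)
  have hf : f ∈ (c.P : Subgroup G) := mul_mem hw (hconj w hw)
  have hf1 : f ≠ 1 := fun e => hww (eq_inv_of_mul_eq_one_right e)
  have hrf : r1 * f = f * r1 := by
    refine conj_eq_self_iff.1 ?_
    have h1 : r1 * (r1 * w * r1⁻¹) * r1⁻¹ = w := by
      rw [conj_conj_eq, hexp r1 hr1]; group
    calc r1 * f * r1⁻¹ = (r1 * w * r1⁻¹) * (r1 * (r1 * w * r1⁻¹) * r1⁻¹) := by simp only [f]; group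
      _ = f := by rw [h1]; exact comm_of_mem c.hab (hconj w hw) hw
  obtain ⟨i, hi, hfi⟩ := (Nat.dvd_prime_pow Nat.prime_three).1
    (show orderOf f ∣ 3 ^ 2 from orderOf_dvd_of_pow_eq_one (c.pow_nine hf))
  have hi0 : i ≠ 0 := fun e => hf1 (orderOf_eq_one_iff.1 (by rw [hfi, e, pow_zero]))
  set f' := f ^ 3 ^ (i - 1) with hf'
  have hf'o : orderOf f' = 3 := by
    rw [hf', orderOf_pow, hfi]
    interval_cases i <;> first | omega | norm_num
  have hf'P : f' ∈ (c.P : Subgroup G) := pow_mem hf _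
  have hrf' : f' * r1 = r1 * f' := ((show Commute f r1 from hrf.symm).pow_left _).eq
  obtain ⟨g, hg⟩ := isConj_iff.1 (c.isConj_of_orderOf hr1o)
  have hgx : g * f' * g⁻¹ ∈ zpowers c.x := by
    refine c.three_mem_zpowers ?_ (by rw [← MulAut.conj_apply, MulEquiv.orderOf_eq, hf'o])
    rw [← hg]
    calc g * f' * g⁻¹ * (g * r1 * g⁻¹) = g * (f' * r1) * g⁻¹ := by group
      _ = _ := by rw [hrf']; group
  have hxz : zpowers (g * f' * g⁻¹) = zpowers c.x := Subgroup.eq_of_le_of_card_ge (zpowers_le.2 hgx)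
    (by rw [Nat.card_zpowers, Nat.card_zpowers, ← MulAut.conj_apply, MulEquiv.orderOf_eq, hf'o, c.hx3])
  haveI := c.hab
  have hy : g⁻¹ * (g * f' * g⁻¹) * g ∈ (c.P : Subgroup G) := by
    rwa [show g⁻¹ * (g * f' * g⁻¹) * g = f' by group]
  have hgP : g * f' * g⁻¹ ∈ (c.P : Subgroup G) :=
    (zpowers_le.2 c.hx : zpowers c.x ≤ _) hgx
  obtain ⟨n, hn, hne⟩ := Sylow.conj_eq_normalizer_conj_of_mem c.P (g * f' * g⁻¹) g hgP hy
  rw [show g⁻¹ * (g * f' * g⁻¹) * g = f' by group] at hne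
  have h1 : n * r1 * n⁻¹ ∈ normalizer ((c.P : Subgroup G) : Set G) :=
    mul_mem (mul_mem hn (hR hr1)) (inv_mem hn)
  have hnf : n * f' * n⁻¹ = g * f' * g⁻¹ := by
    conv_lhs => rw [hne]
    group
  have h2 : n * r1 * n⁻¹ ∈ c.K := by
    have hc : Commute (n * r1 * n⁻¹) (g * f' * g⁻¹) := by
      rw [← hnf]
      show n * r1 * n⁻¹ * (n * f' * n⁻¹) = n * f' * n⁻¹ * (n * r1 * n⁻¹)
      calc _ = n * (r1 * f') * n⁻¹ := by group
        _ = _ := by rw [← hrf']; group
    have hxm : c.x ∈ zpowers (g * f' * g⁻¹) := hxz.symm ▸ mem_zpowers _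
    obtain ⟨j, hj⟩ := mem_zpowers_iff.1 hxm
    rw [mem_centralizer_singleton_iff, ← hj]
    exact (hc.zpow_right j).eq
  have h3 : n * r1 * n⁻¹ ∈ (c.P : Subgroup G) := c.hNK ▸ Subgroup.mem_inf.2 ⟨h1, h2⟩
  have h4 : orderOf (n * r1 * n⁻¹) ∣ 9 := orderOf_dvd_of_pow_eq_one (c.pow_nine h3)
  rw [← MulAut.conj_apply, MulEquiv.orderOf_eq, hr1o] at h4
  norm_num at h4

end Ctx

end Cfsg.Agent.Order2520
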